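import Groth.Agent.Thom28.SecLine
import Groth.Agent.Thom28.SubBundleClass
import Groth.Agent.CycLib28.GysinMaps
import Groth.Agent.CycLib28.ClosedZero
import Groth.Agent.KPull28.Basic

/-!
# The top Chern class and the zero scheme of a section
-/

set_option autoImplicit false
set_option linter.unusedSectionVars false
set_option linter.style.haveILetI false
set_option backward.isDefEq.respectTransparency.types false
set_option maxHeartbeats 1000000

universe u

open AlgebraicGeometry CategoryTheory CategoryTheory.Limits TopologicalSpace IsLocalRing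
open Groth.Agent.KRRPBLib Groth.Agent.Coherent Groth.Agent.PicLib Groth.Agent.CycLim28
open Groth.Agent.CycLib28 Groth.Agent.CycLib28.PB Groth.Agent.CycLib28.PB.Ops

namespace Groth.Agent.Thom28

section Cycles

variable {X Y Z Z' : Scheme.{u}}

theorem subschemeFun_congr {δ : X → ℤ} {k : ℤ} (i : Z ⟶ X) [IsClosedImmersion i] (i' : Z' ⟶ X) [IsClosedImmersion i']
    (hr : Set.range i = Set.range i') (J : (x : X) → Ideal (X.presheaf.stalk x))
    (h : ∀ z, RingHom.ker (i.stalkMap z).hom = J (i z)) (h' : ∀ z, RingHom.ker (i'.stalkMap z).hom = J (i' z)) :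
    Cyc.subschemeFun δ k i = Cyc.subschemeFun δ k i' := by
  funext x
  simp only [Cyc.subschemeFun]
  by_cases hx : x ∈ Set.range i
  · obtain ⟨z, rfl⟩ := hx
    obtain ⟨z', hz'⟩ : i z ∈ Set.range i' := hr ▸ ⟨z, rfl⟩
    rw [show {w | i w = i z} = {z} from Set.ext fun w => i.isClosedEmbedding.injective.eq_iff,
      show {w | i' w = i z} = {z'} from Set.ext fun w => by rw [Set.mem_setOf_eq, ← hz', i'.isClosedEmbedding.injective.eq_iff]; rfl,
      finsum_mem_singleton, finsum_mem_singleton, length_stalk_closed i, length_stalk_closed i', h, h', hz']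
  · rw [show {w | i w = x} = ∅ from Set.eq_empty_of_forall_notMem fun w hw => hx ⟨w, hw⟩,
      show {w | i' w = x} = ∅ from Set.eq_empty_of_forall_notMem fun w hw => hx (hr.symm ▸ ⟨w, hw⟩)]
    simp only [finsum_mem_empty]

theorem map_subschemeFun (ι : Y ⟶ X) [IsClosedImmersion ι] (j : Z ⟶ Y) {δ : X → ℤ} {δY : Y → ℤ}
    (hδ : ∀ y, δY y = δ (ι y)) {k : ℤ} {c : AlgebraicCycle Y ℤ} (hc : ⇑c = Cyc.subschemeFun δY k j) :
    ⇑(AlgebraicCycle.map ι δY δ c) = Cyc.subschemeFun δ k (j ≫ ι) := by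
  obtain rfl : δY = fun y => δ (ι y) := funext hδ
  funext x
  by_cases hx : x ∈ Set.range ι
  · obtain ⟨y, rfl⟩ := hx
    rw [map_closedImmersion_apply, hc, Cyc.subschemeFun, Cyc.subschemeFun,
      show {z | (j ≫ ι) z = ι y} = {z | j z = y} from Set.ext fun z => ι.isClosedEmbedding.injective.eq_iff]
  · rw [map_closedImmersion_eq_zero ι _ _ _ x hx, Cyc.subschemeFun,
      show {z | (j ≫ ι) z = x} = ∅ from Set.eq_empty_of_forall_notMem fun z hz => hx ⟨j z, hz⟩]
    simp

theorem exists_subscheme_cycle [IsLocallyNoetherian X] {δ : X → ℤ} (hδ : Cyc.IsDimFun X δ) (i : Z ⟶ X)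
    [IsClosedImmersion i] {k : ℤ} (hk : ∀ z, δ (i z) ≤ k) :
    ∃ c : AlgebraicCycle X ℤ, ⇑c = Cyc.subschemeFun δ k i ∧ c ∈ Cyc.Zk X δ k := by
  haveI : IsLocallyNoetherian Z := LocallyOfFiniteType.isLocallyNoetherian i
  obtain ⟨a, ha, -⟩ := exists_fundamental_cycle (isDimFun_comp_closedImmersion i hδ) k hk
  refine ⟨AlgebraicCycle.map i (fun z => δ (i z)) δ a, ?_, ?_⟩
  · rw [map_subschemeFun i (𝟙 Z) (δY := fun z => δ (i z)) (fun _ => rfl) ha, Category.id_comp]
  · intro x hx
    rw [map_subschemeFun i (𝟙 Z) (δY := fun z => δ (i z)) (fun _ => rfl) ha, Cyc.subschemeFun, if_neg hx]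

theorem mem_Zk_subschemeFun {δ : X → ℤ} {k : ℤ} (i : Z ⟶ X) {c : AlgebraicCycle X ℤ}
    (hc : ⇑c = Cyc.subschemeFun δ k i) : c ∈ Cyc.Zk X δ k := fun x hx => by
  rw [hc, Cyc.subschemeFun, if_neg hx]

end Cycles

section Line

/-- The first Chern class and the zero scheme of a section of a line bundle. -/
theorem c1_zero_line {X Z : Scheme.{u}} [IsLocallyNoetherian X] {δ : X → ℤ} (hδ : Cyc.IsDimFun X δ) {L : X.Modules}
    (hL : PicF.IsInvertible L) (s : Γ(L, ⊤)) (i : Z ⟶ X) [IsClosedImmersion i] (hZ : IsZeroOf i s) {n : ℤ}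
    (hn : ∀ x, δ x ≤ n) (hd : ∀ z, δ (i z) ≤ n - 1)
    (hreg : ∀ z, δ (i z) = n - 1 → ∃ f : X.presheaf.stalk (i z),
      IsSMulRegular (X.presheaf.stalk (i z)) f ∧ sI s (i z) = Ideal.span {f})
    {Φ ζ : AlgebraicCycle X ℤ} (hΦ : ⇑Φ = Cyc.subschemeFun δ n (𝟙 X)) (hζ : ⇑ζ = Cyc.subschemeFun δ (n - 1) i) :
    c1 δ L (cls δ n Φ) = cls δ (n - 1) ζ := by
  classical
  have hL1 := PicLib.isFinLocFreeOfRank_one hL
  have hmem : ∀ x : X, (L.presheaf.germ ⊤ x trivial) s ∈ maximalIdeal (X.presheaf.stalk x) •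
      (⊤ : Submodule (X.presheaf.stalk x) (L.presheaf.stalk x)) → x ∈ Set.range i := fun x hx => by
    rw [hZ.1]
    exact (sI_le_iff hL1 s x _).2 hx
  have hcoef : ∀ (x : X) (t : L.presheaf.stalk x) (f : X.presheaf.stalk x),
      Submodule.span (X.presheaf.stalk x) {t} = ⊤ → (L.presheaf.germ ⊤ x trivial s : L.presheaf.stalk x) = f • t →
      sI s x = Ideal.span {f} := by
    intro x t f ht hf
    obtain ⟨U, hxU, g, hg⟩ := PicLib.exists_isGen hL x
    rw [sI_line s hg hL hxU]
    refine span_coeff_eq hg hxU ht ?_ hf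
    refine Eq.trans ?_ (QCohLoc.germ_smul' (M := L) hxU _ g)
    have h := hg.coef_spec le_rfl (resM L le_top s)
    rw [resM_self] at h
    rw [h]
    exact (TopCat.Presheaf.germ_res_apply L.presheaf (homOfLE le_top) x hxU s).symm
  have hinj : ∀ y : X, δ y = n - 1 →
      Function.Injective (fun a : X.presheaf.stalk y => a • (L.presheaf.germ ⊤ y trivial) s) := by
    intro y hy
    obtain ⟨ht, f, hf⟩ := exists_choose_coeff hL y ((L.presheaf.germ ⊤ y trivial) s)
    have hI := hcoef y _ f ht.choose_spec hf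
    have hinjt := (gen_bijective hL ht.choose_spec).1.1
    have hfr : IsSMulRegular (X.presheaf.stalk y) f := by
      by_cases hu : sI s y ≤ maximalIdeal (X.presheaf.stalk y)
      · obtain ⟨z, rfl⟩ : y ∈ Set.range i := hZ.1 ▸ hu
        obtain ⟨g, hg, hgI⟩ := hreg z hy
        obtain ⟨c, hc⟩ := Ideal.mem_span_singleton'.1 (show g ∈ Ideal.span {f} from hI ▸ hgI.symm ▸ Ideal.mem_span_singleton_self g)
        intro a b hab
        exact hg (show g • a = g • b by rw [← hc, smul_eq_mul, smul_eq_mul, mul_assoc, mul_assoc, show f * a = f * b from hab])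
      · rw [hI, Ideal.span_le, Set.singleton_subset_iff, SetLike.mem_coe, IsLocalRing.mem_maximalIdeal,
          mem_nonunits_iff, not_not] at hu
        exact hu.isSMulRegular _
    intro a b hab
    simp only [hf, smul_smul] at hab
    refine hfr (show f • a = f • b from ?_)
    rw [smul_eq_mul, smul_eq_mul, mul_comm f a, mul_comm f b]
    exact hinjt hab
  have hfun : Cyc.zeroSectionFun δ (n - 1) L s = Cyc.subschemeFun δ (n - 1) i := by
    funext x
    rw [Cyc.zeroSectionFun, Cyc.subschemeFun]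
    split_ifs with hx ht hf
    · have hI := hcoef x _ _ ht.choose_spec (Classical.choose_spec hf)
      rw [← hI]
      by_cases hr : x ∈ Set.range i
      · obtain ⟨z, rfl⟩ := hr
        rw [show {w | i w = i z} = {z} from Set.ext fun w => i.isClosedEmbedding.injective.eq_iff,
          finsum_mem_singleton, length_stalk_closed i, hZ.2]
      · rw [show {w | i w = x} = ∅ from Set.eq_empty_of_forall_notMem fun w hw => hr ⟨w, hw⟩, finsum_mem_empty]
        have : sI s x = ⊤ := by
          by_contra hne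
          exact hr (hZ.1 ▸ IsLocalRing.le_maximalIdeal hne)
        rw [this]
        haveI : Subsingleton (↑(X.presheaf.stalk x) ⧸ (⊤ : Ideal (X.presheaf.stalk x))) :=
          Ideal.Quotient.subsingleton_iff.2 rfl
        simp [Module.length_eq_zero]
    · exact absurd (exists_choose_coeff hL x _).2 (fun h => hf (by simpa using h))
    · exact absurd (exists_choose_coeff hL x ((L.presheaf.germ ⊤ x trivial) s)).1 ht
    · rfl
  obtain ⟨w, hw⟩ := exists_secs hL
  refine c1_cls hδ hL (mem_Zk_subschemeFun _ hΦ) (gysinChoice_ne_zero L s w hw) ?_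
  rw [hζ, ← hfun, zeroSectionFun_eq_c1CapFun hδ hL (n - 1) (fun y => by simpa using hn y) s
    (fun y hy => by obtain ⟨z, rfl⟩ := hmem y hy; exact hd z) hinj, sub_add_cancel, hΦ]
  funext x
  simp only [Cyc.c1CapFun]
  refine finsum_congr fun ξ => ?_
  rw [subschemeFun_id]
  split_ifs with hξ
  · rw [Cyc.gysinChoice, if_pos]
    intro h0
    obtain ⟨z, rfl⟩ := hmem ξ ((Submodule.Quotient.mk_eq_zero _).1 h0)
    have := hd z
    omega
  · simp

end Line

section Bundle

variable {X P : Scheme.{u}} {E : X.Modules} {p : P ⟶ X} {O1 : P.Modules}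
  {q : (Scheme.Modules.pullback p).obj E ⟶ O1}

/-- The image of a global section in `O(1)`. -/
noncomputable abbrev secTop (q : (Scheme.Modules.pullback p).obj E ⟶ O1) (s : Γ(E, ⊤)) : Γ(O1, ⊤) := sec q s

/-- The pull back of a global section. -/
noncomputable abbrev pullTop {X Y : Scheme.{u}} (g : Y ⟶ X) {E : X.Modules} (s : Γ(E, ⊤)) :
    Γ((Scheme.Modules.pullback g).obj E, ⊤) := pullSec g s

theorem stalkMap_germ_appLE {U : X.Opens} {V : P.Opens} (h : V ≤ p ⁻¹ᵁ U) {y : P} (hy : y ∈ V) (a : Γ(X, U)) :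
    P.presheaf.germ V y hy (p.appLE U V h a) = p.stalkMap y (X.presheaf.germ U (p y) (h hy) a) :=
  ((Scheme.Hom.germ_stalkMap_apply p U y (h hy) a).trans
    (TopCat.Presheaf.germ_res_apply _ (homOfLE h) y hy _).symm).symm

/-- The image of a section in `O(1)` as a combination of the coordinates with a unit coefficient. -/
theorem exists_comb [Coh.IsQCoh E] {m : ℕ} (hE : FlatMod.IsFinLocFreeOfRank (m + 1) E)
    (hP : KRR.IsProjBundle p E O1 q) (s : Γ(E, ⊤)) (y : P) :
    ∃ (c a : Fin (m + 1) → P.presheaf.stalk y) (k : Fin (m + 1)), a k = 1 ∧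
      sI (pullTop p s) y = Ideal.span (Set.range c) ∧
      sI (secTop q s) y = Ideal.span {∑ i, a i * c i} := by
  let C := baseChart hE (p y)
  obtain ⟨k, hk⟩ := exists_mem_D hP C.b (y := y) C.mem C.isAffine
  obtain ⟨c, hc⟩ : ∃ c : Fin (m + 1) → Γ(X, C.U), resM E le_top s = ∑ i, c i • C.b i :=
    ⟨fun i => C.b.repr (resM E le_top s) i, (C.b.sum_repr _).symm⟩
  refine ⟨fun i => p.stalkMap y (X.presheaf.germ C.U (p y) C.mem (c i)),
    fun i => P.presheaf.germ (D q (C.b k)) y hk (coord q (C.b k) (C.b i)), k, ?_, ?_, ?_⟩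
  · show P.presheaf.germ _ y hk (coord q (C.b k) (C.b k)) = 1
    rw [coord_self, map_one]
  · rw [sI_pullback p hE, sI_eq_span C.isAffine C.b s C.mem c hc, Ideal.map_span, ← Set.range_comp]
    rfl
  · rw [sI_sec (isInvertible_of_rankOne hP.invertible) C.b s c hc k hk, map_sum]
    congr 3
    funext i
    rw [map_mul, stalkMap_germ_appLE (D_le q (C.b k)) hk, mul_comm]

theorem sI_sec_le [Coh.IsQCoh E] {m : ℕ} (hE : FlatMod.IsFinLocFreeOfRank (m + 1) E)
    (hP : KRR.IsProjBundle p E O1 q) (s : Γ(E, ⊤)) (y : P) :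
    sI (secTop q s) y ≤ sI (pullTop p s) y := by
  obtain ⟨c, a, k, -, h1, h2⟩ := exists_comb hE hP s y
  rw [h1, h2, Ideal.span_le, Set.singleton_subset_iff, SetLike.mem_coe]
  exact Ideal.sum_mem _ fun i _ => Ideal.mul_mem_left _ _ (Ideal.subset_span ⟨i, rfl⟩)

/-- Away from the zero scheme the image in `O(1)` is a regular element. -/
theorem regular_sI [Coh.IsQCoh E] {m : ℕ} (hE : FlatMod.IsFinLocFreeOfRank (m + 1) E)
    (hP : KRR.IsProjBundle p E O1 q) (s : Γ(E, ⊤)) (y : P)
    (hs : ¬ sI s (p y) ≤ maximalIdeal (X.presheaf.stalk (p y))) :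
    ∃ γ : P.presheaf.stalk y, IsSMulRegular (P.presheaf.stalk y) γ ∧ sI (secTop q s) y = Ideal.span {γ} := by
  classical
  have hinv := isInvertible_of_rankOne hP.invertible
  obtain ⟨U, n', e, hyU, he⟩ := exists_isBasisOn (isFinLocFree_of_rank hE) (p y)
  obtain ⟨W₀, hW₀, hyW₀, hW₀U⟩ := TopologicalSpace.Opens.isBasis_iff_nbhd.1 X.isBasis_affineOpens hyU
  obtain ⟨b, hb⟩ := exists_basis_of_isBasisOn he hW₀U
  obtain ⟨k, hk⟩ := exists_mem_D hP b (y := y) hyW₀ hW₀
  obtain ⟨m', rfl⟩ : ∃ m', n' = m' + 1 := ⟨n' - 1, by have := k.isLt; omega⟩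
  obtain ⟨c, hc⟩ : ∃ c : Fin (m' + 1) → Γ(X, W₀), resM E le_top s = ∑ i, c i • b i :=
    ⟨fun i => b.repr (resM E le_top s) i, (b.sum_repr _).symm⟩
  refine ⟨_, ?_, sI_sec hinv b s c hc k hk⟩
  by_cases hu : IsUnit (P.presheaf.germ (D q (b k)) y hk
      (∑ i, p.appLE W₀ (D q (b k)) (D_le q (b k)) (c i) * coord q (b k) (b i)))
  · exact hu.isSMulRegular _
  obtain ⟨j, hj⟩ : ∃ j : Fin m', IsUnit (X.presheaf.germ W₀ (p y) hyW₀ (c (k.succAbove j))) := by
    by_contra hcon
    simp only [not_exists] at hcon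
    refine hs ?_
    rw [sI_eq_span hW₀ b s hyW₀ c hc, Ideal.span_le]
    rintro _ ⟨i, rfl⟩
    rcases Fin.eq_self_or_eq_succAbove k i with rfl | ⟨j, rfl⟩
    · rw [SetLike.mem_coe, IsLocalRing.mem_maximalIdeal, mem_nonunits_iff]
      intro hk1
      refine hu ?_
      rw [Fin.sum_univ_succAbove _ i, map_add, map_mul, coord_self, map_one, mul_one, map_sum]
      by_contra hnu
      have hsum : ∑ j, P.presheaf.germ (D q (b i)) y hk (p.appLE W₀ (D q (b i)) (D_le q (b i))
          (c (i.succAbove j)) * coord q (b i) (b (i.succAbove j))) ∈ maximalIdeal (P.presheaf.stalk y) :=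
        Ideal.sum_mem _ fun j _ => by
          rw [map_mul, stalkMap_germ_appLE (D_le q (b i)) hk]
          refine Ideal.mul_mem_right _ _ ?_
          rw [IsLocalRing.mem_maximalIdeal, mem_nonunits_iff]
          exact fun h => hcon j (isUnit_of_map_unit (p.stalkMap y).hom _ h)
      have h1 := Ideal.sub_mem _ ((IsLocalRing.mem_maximalIdeal _).2 hnu) hsum
      rw [add_sub_cancel_right, IsLocalRing.mem_maximalIdeal, mem_nonunits_iff,
        stalkMap_germ_appLE (D_le q (b i)) hk] at h1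
      exact h1 (hk1.map (p.stalkMap y).hom)
    · exact (IsLocalRing.mem_maximalIdeal _).2 (hcon j)
  obtain ⟨W, hW, hyW, hWU⟩ := TopologicalSpace.Opens.isBasis_iff_nbhd.1 X.isBasis_affineOpens
    (show p y ∈ X.basicOpen (c (k.succAbove j)) from (X.mem_basicOpen _ _ hyW₀).2 hj)
  have hWC : W ≤ W₀ := hWU.trans (X.basicOpen_le _)
  obtain ⟨b', hb''⟩ := exists_basis_of_isBasisOn he (hWC.trans hW₀U)
  have hb' : ∀ i, b' i = resM E hWC (b i) := fun i => by rw [hb'', hb, resM_resM]
  have hk' : y ∈ D q (b' k) := by rw [hb', Thom28.D_res (q := q) hWC]; exact ⟨hk, hyW⟩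
  let c' : Fin (m' + 1) → Γ(X, W) := fun i => X.presheaf.map (homOfLE hWC).op (c i)
  have hc' : resM E le_top s = ∑ i, c' i • b' i := by
    have h := congrArg (resM E hWC) hc
    rw [resM_resM, map_sum] at h
    exact h.trans (Finset.sum_congr rfl fun i _ => (resM_smul E hWC _ _).trans (by rw [hb']))
  have hju : IsUnit (c' (k.succAbove j)) :=
    (RingedSpace.isUnit_res_basicOpen X.toRingedSpace (c (k.succAbove j))).map
      (X.presheaf.map (homOfLE hWU).op).hom |> fun h => by
        rw [show c' (k.succAbove j) = X.presheaf.map (homOfLE hWU).op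
          (X.presheaf.map (homOfLE (X.basicOpen_le _)).op (c (k.succAbove j))) from
            (by rw [← CategoryTheory.comp_apply, ← Functor.map_comp]; rfl)]
        exact h
  have hγ := regular_sec_germ hP hW b' c' k j hju hk'
  have h1 := sI_sec hinv b' s c' hc' k hk'
  rw [sI_sec hinv b s c hc k hk] at h1
  intro u v huv
  obtain ⟨d, hd⟩ := Ideal.mem_span_singleton'.1
    (show _ ∈ Ideal.span {_} from h1.symm ▸ Ideal.mem_span_singleton_self _)
  refine hγ ?_
  simp only [smul_eq_mul] at huv ⊢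
  rw [← hd, mul_assoc, mul_assoc, huv]

/-- A point of the zero scheme of the image in `O(1)` is not of top dimension. -/
theorem not_top_of_regular [IsLocallyNoetherian P] {δP : P → ℤ} (hdP : Cyc.IsDimFun P δP) {k : ℤ}
    (hk : ∀ z, δP z ≤ k) (y : P) (hy : δP y = k) {γ : P.presheaf.stalk y}
    (hγ : IsSMulRegular (P.presheaf.stalk y) γ) : IsUnit γ := by
  by_contra hu
  have hnil : IsNilpotent γ := nilpotent_iff_mem_prime.2 fun J hJ => by
    have hclosed : (⟨J, hJ⟩ : PrimeSpectrum (P.presheaf.stalk y)) = closedPoint _ := by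
      by_contra hne
      have hne' : P.fromSpecStalk y ⟨J, hJ⟩ ≠ y := fun e => hne (fromSpecStalk_injective y
        (e.trans (Scheme.fromSpecStalk_closedPoint).symm))
      have h1 := (hdP _ _ (fromSpecStalk_specializes y ⟨J, hJ⟩) hne').1
      have h2 := hk (P.fromSpecStalk y ⟨J, hJ⟩)
      omega
    rw [show J = maximalIdeal (P.presheaf.stalk y) from congrArg PrimeSpectrum.asIdeal hclosed]
    exact (IsLocalRing.mem_maximalIdeal _).2 hu
  obtain ⟨e, he⟩ := hnil
  have h1 : (1 : P.presheaf.stalk y) = 0 := (hγ.pow e) (by simp only [smul_eq_mul, mul_one, mul_zero, he, zero_mul])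
  exact one_ne_zero h1

end Bundle

/-- The top Chern class of a bundle and the zero scheme of a section. -/
theorem top_class : ∀ (r : ℕ) {X Z : Scheme.{u}} {δ : X → ℤ}, Cyc.IsSetup X δ → ∀ {n : ℤ}, (∀ x, δ x ≤ n) →
    ∀ {E : X.Modules}, FlatMod.IsFinLocFreeOfRank r E → ∀ (s : Γ(E, ⊤)) (i : Z ⟶ X) [IsClosedImmersion i],
      IsZeroOf i s → (∀ z, δ (i z) ≤ n - r) →
      (∀ z, δ (i z) = n - r → ∃ f : Fin r → X.presheaf.stalk (i z),
        RingTheory.Sequence.IsRegular (X.presheaf.stalk (i z)) (List.ofFn f) ∧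
          Ideal.span (Set.range f) = sI s (i z)) →
      ∀ {Φ ζ : AlgebraicCycle X ℤ}, ⇑Φ = Cyc.subschemeFun δ n (𝟙 X) → ⇑ζ = Cyc.subschemeFun δ (n - r) i →
        chern δ E r (Fin.last r) (cls δ n Φ) = cls δ (n - r) ζ
  | 0, X, Z, δ, hX, n, hn, E, hE, s, i, _, hZ, hd, hreg, Φ, ζ, hΦ, hζ => by
    have hs0 : s = 0 := by
      have h := congrArg (fun φ : E ⟶ E => φ.app ⊤ s) ((IsZero.iff_id_eq_zero E).1 (isZero_of_rank_zero hE))
      simpa using h
    have h0 : ∀ x, sI s x = ⊥ := fun x => by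
      rw [sI, coordIdeal, hs0, map_zero, map_zero, LinearMap.range_zero]
    have e : Φ = ζ := DFunLike.coe_injective (by
      rw [hΦ, hζ, Nat.cast_zero, sub_zero]
      refine subschemeFun_congr (𝟙 X) i ?_ (fun x => sI s x) (fun z => ?_) hZ.2
      · rw [hZ.1]
        ext x
        simp [h0]
      · rw [h0, (RingHom.injective_iff_ker_eq_bot _).1 (ConcreteCategory.bijective_of_isIso ((𝟙 X : X ⟶ X).stalkMap z)).1])
    rw [show Fin.last 0 = (0 : Fin 1) from rfl, chern_zero hX hE, e, Nat.cast_zero, sub_zero]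
    rfl
  | r + 1, X, Z, δ, hX, n, hn, E, hE, s, i, _, hZ, hd, hreg, Φ, ζ, hΦ, hζ => by
    classical
    haveI := hX.1
    haveI := isQCoh_of_rank hE
    obtain ⟨P, p, O1, q, δP, hP, hp, hPs, hδ⟩ := exists_projBundle_setup hX hE
    haveI := hPs.1
    haveI : Flat p := flat_of_isProjBundle hE hP
    haveI := hP.epi
    have hinv := isInvertible_of_rankOne hP.invertible
    have hcp := delta_genInFibre hE hP hPs.2.2 hδ
    have hpE := Groth.Agent.VarietyLib.isFinLocFreeOfRank_pullback p hE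
    have hK := isFinLocFreeOfRank_kernel_line hpE hinv q
    have hex := H8Lim.shortExact_kernel q
    have hdel : ∀ y, δP y ≤ n + r := fun y => by
      have := delta_le_bundle hE hP hPs.2.2 hδ y
      have := hn (p y)
      omega
    obtain ⟨D₁, ι, _, hιr, hιk⟩ := exists_zero_line hinv (secTop q s)
    haveI : IsLocallyNoetherian D₁ := LocallyOfFiniteType.isLocallyNoetherian ι
    obtain ⟨δD, hDs, hDc⟩ := exists_setup ι hPs
    have hδι := delta_closedImmersion ι hDc
    have hZfst := ker_fst p hE hZ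
    have hfst_le : ∀ w, δP (pullback.fst p i w) ≤ n - ((r + 1 : ℕ) : ℤ) + r := fun w => by
      have := delta_le_bundle hE hP hPs.2.2 hδ (pullback.fst p i w)
      have := hd (pullback.snd p i w)
      have e : i (pullback.snd p i w) = p (pullback.fst p i w) :=
        (congrArg (fun f : pullback p i ⟶ X ↦ f w) pullback.condition).symm
      rw [e] at this
      omega
    -- the generators of the ideal over the top points of the zero scheme
    have hover : ∀ y : P, p y ∈ Set.range i → δP y = n - ((r + 1 : ℕ) : ℤ) + r →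
        ∃ f : Fin (r + 1) → P.presheaf.stalk y, RingTheory.Sequence.IsRegular (P.presheaf.stalk y) (List.ofFn f) ∧
          Ideal.span (Set.range f) = sI (pullTop p s) y := by
      rintro y ⟨z, hz⟩ hy
      have h1 := delta_le_bundle hE hP hPs.2.2 hδ y
      have h2 := hd z
      have hxz : δ (i z) = n - ((r + 1 : ℕ) : ℤ) := by rw [← hz] at h1; omega
      obtain ⟨f, hf, hfI⟩ := hreg z hxz
      have key : ∀ (x : X) (hx : x = i z), ∃ f : Fin (r + 1) → X.presheaf.stalk x,
          RingTheory.Sequence.IsRegular (X.presheaf.stalk x) (List.ofFn f) ∧ Ideal.span (Set.range f) = sI s x := by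
        rintro x rfl
        exact ⟨f, hf, hfI⟩
      obtain ⟨g, hg, hgI⟩ := key (p y) hz.symm
      algebraize [(p.stalkMap y).hom]
      haveI : Module.Flat (X.presheaf.stalk (p y)) (P.presheaf.stalk y) := Flat.stalkMap p y
      refine ⟨fun l => p.stalkMap y (g l), ⟨?_, ?_⟩, ?_⟩
      · have := hg.toIsWeaklyRegular.of_flat (S := P.presheaf.stalk y)
        rwa [List.map_ofFn] at this
      · intro htop
        have hle : Ideal.ofList (List.ofFn fun l => p.stalkMap y (g l)) ≤ maximalIdeal (P.presheaf.stalk y) := by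
          refine Ideal.span_le.2 fun z hz => ?_
          obtain ⟨l, rfl⟩ := List.mem_ofFn.1 hz
          rw [SetLike.mem_coe, IsLocalRing.mem_maximalIdeal, mem_nonunits_iff]
          intro hu
          refine hg.top_ne_smul ?_
          rw [eq_comm, smul_eq_mul, Ideal.mul_top]
          exact Ideal.eq_top_of_isUnit_mem _ (Ideal.subset_span (show g l ∈ {v | v ∈ List.ofFn g} from List.mem_ofFn.2 ⟨l, rfl⟩))
            (isUnit_of_map_unit (p.stalkMap y).hom _ hu)
        rw [eq_comm, smul_eq_mul, Ideal.mul_top] at htop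
        exact (IsLocalRing.maximalIdeal.isMaximal _).ne_top (top_le_iff.1 (htop ▸ hle))
      · rw [sI_pullback p hE, ← hgI, Ideal.map_span, ← Set.range_comp]
        rfl
    have hιle : ∀ d, δP (ι d) ≤ n + r - 1 := by
      intro d
      by_contra hcon
      have hy : δP (ι d) = n + r := by have := hdel (ι d); omega
      have hmem : sI (secTop q s) (ι d) ≤ maximalIdeal (P.presheaf.stalk (ι d)) := by
        have : ι d ∈ Set.range ι := ⟨d, rfl⟩
        rwa [hιr] at this
      have hs : ¬ sI s (p (ι d)) ≤ maximalIdeal (X.presheaf.stalk (p (ι d))) := by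
        intro h
        have : p (ι d) ∈ Set.range i := hZ.1 ▸ h
        obtain ⟨z, hz⟩ := this
        have h1 := delta_le_bundle hE hP hPs.2.2 hδ (ι d)
        have h2 := hd z
        rw [hz] at h2
        omega
      obtain ⟨γ, hγ, hγI⟩ := regular_sI hE hP s (ι d) hs
      rw [hγI, Ideal.span_le, Set.singleton_subset_iff, SetLike.mem_coe, IsLocalRing.mem_maximalIdeal] at hmem
      exact hmem (not_top_of_regular hPs.2.2 hdel _ hy hγ)
    -- the section of the kernel on the zero scheme in the bundle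
    let g := (Scheme.Modules.pullback ι).map q
    have hexD := KPull28.shortExact_pullback ι hex (isFinLocFree_of_rank (PicLib.isFinLocFreeOfRank_one hinv))
    have hEι := Groth.Agent.VarietyLib.isFinLocFreeOfRank_pullback ι hpE
    have hKι := Groth.Agent.VarietyLib.isFinLocFreeOfRank_pullback ι hK
    have hOι := Groth.Agent.VarietyLib.isFinLocFreeOfRank_pullback ι (PicLib.isFinLocFreeOfRank_one hinv)
    let s₁ : Γ((Scheme.Modules.pullback ι).obj ((Scheme.Modules.pullback p).obj E), ⊤) :=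
      pullTop ι (pullTop p s)
    have hg0 : ((Scheme.Modules.pullback ι).map q).app ⊤ s₁ = 0 := by
      have h := H8Lim.map_app_pullSec ι q (U := ⊤) (pullTop p s)
      refine Eq.trans h ?_
      refine Eq.trans (congrArg (pullTop ι)
        (show q.app ⊤ (pullTop p s) = (secTop q s) from (sec_eq_app s).symm)) ?_
      refine TopCat.Presheaf.section_ext ⟨_, ((Scheme.Modules.pullback ι).obj O1).isSheaf⟩ ⊤ _ _ fun d _ => ?_
      rw [map_zero]
      have h1 : sI (pullTop ι (secTop q s)) d ≤ ⊥ := by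
        rw [sI_pullback ι (PicLib.isFinLocFreeOfRank_one hinv), ← hιk, le_bot_iff, Ideal.map_eq_bot_iff_le_ker]
      have h2 := (sI_le_iff hOι _ d ⊥).1 h1
      rwa [Submodule.bot_smul, Submodule.mem_bot] at h2
    obtain ⟨t₀, ht₀⟩ := sections_exact hexD s₁ hg0
    let t : Γ((Scheme.Modules.pullback ι).obj (kernel q), ⊤) := t₀
    have ht : ((Scheme.Modules.pullback ι).map (kernel.ι q)).app ⊤ t = s₁ := ht₀
    have hsIt : ∀ d, sI t d =
        (sI (pullTop p s) (ι d)).map (ι.stalkMap d).hom := fun d => by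
      refine (sI_sub (n := 0) hexD hKι hOι t d).symm.trans ?_
      refine (congrArg (fun w => sI w d) ht).trans ?_
      exact sI_pullback ι hpE (pullTop p s) d
    have hj := ker_fst (ι ≫ p) hE hZ
    have hjt : IsZeroOf (pullback.fst (ι ≫ p) i) t := by
      have hcomp : ∀ d, sI (pullTop (ι ≫ p) s) d = sI t d := fun d => by
        rw [hsIt, sI_pullback p hE, sI_pullback (ι ≫ p) hE, Ideal.map_map, Scheme.Hom.stalkMap_comp]
        rfl
      refine ⟨?_, fun z => by rw [hj.2, hcomp]⟩
      rw [hj.1]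
      simp only [hcomp]
    have hkerj : ∀ w, RingHom.ker ((pullback.fst (ι ≫ p) i ≫ ι).stalkMap w).hom =
        sI (pullTop p s) ((pullback.fst (ι ≫ p) i ≫ ι) w) := fun w => by
      rw [Scheme.Hom.stalkMap_comp]
      show RingHom.ker ((ι.stalkMap (pullback.fst (ι ≫ p) i w) ≫ (pullback.fst (ι ≫ p) i).stalkMap w).hom) =
        sI (pullTop p s) (ι (pullback.fst (ι ≫ p) i w))
      rw [CommRingCat.hom_comp, ← RingHom.comap_ker, hjt.2, hsIt,
        Ideal.comap_map_of_surjective _ (ι.stalkMap_surjective _)]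
      refine sup_eq_left.2 ?_
      change RingHom.ker (ι.stalkMap _).hom ≤ _
      rw [hιk]
      exact sI_sec_le hE hP s _
    have hrange : Set.range (pullback.fst (ι ≫ p) i ≫ ι) = Set.range (pullback.fst p i) := by
      ext y
      rw [Scheme.Pullback.range_fst]
      constructor
      · rintro ⟨w, rfl⟩
        have : pullback.fst (ι ≫ p) i w ∈ Set.range (pullback.fst (ι ≫ p) i) := ⟨w, rfl⟩
        rw [Scheme.Pullback.range_fst] at this
        exact this
      · intro hy
        have hy' : y ∈ Set.range ι := by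
          rw [hιr]
          have h1 : y ∈ Set.range (pullback.fst p i) := by rw [Scheme.Pullback.range_fst]; exact hy
          rw [hZfst.1] at h1
          exact (sI_sec_le hE hP s y).trans h1
        obtain ⟨d, rfl⟩ := hy'
        have : d ∈ Set.range (pullback.fst (ι ≫ p) i) := by rw [Scheme.Pullback.range_fst]; exact hy
        obtain ⟨w, rfl⟩ := this
        exact ⟨w, rfl⟩
    -- cycles
    obtain ⟨ΦP, hΦP, hΦPk⟩ := exists_subscheme_cycle hPs.2.2 (𝟙 P) (k := n + r) hdel
    obtain ⟨ζσ, hζσ, hζσk⟩ := exists_subscheme_cycle hPs.2.2 ι (k := n + r - 1) hιle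
    obtain ⟨ΦD, hΦD, hΦDk⟩ := exists_subscheme_cycle hDs.2.2 (𝟙 D₁) (k := n + r - 1)
      (fun d => by rw [hδι]; exact hιle d)
    have hjle : ∀ w, δD (pullback.fst (ι ≫ p) i w) ≤ n + r - 1 - r := fun w => by
      obtain ⟨v, hv⟩ : (pullback.fst (ι ≫ p) i ≫ ι) w ∈ Set.range (pullback.fst p i) := hrange ▸ ⟨w, rfl⟩
      have := hfst_le v
      rw [hv] at this
      rw [hδι]
      change δP ((pullback.fst (ι ≫ p) i ≫ ι) w) ≤ _
      push_cast at this ⊢
      omega
    obtain ⟨ζD, hζD, hζDk⟩ := exists_subscheme_cycle hDs.2.2 (pullback.fst (ι ≫ p) i) (k := n + r - 1 - r) hjle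
    -- the induction hypothesis on the zero scheme
    have hIH := top_class r hDs (n := n + r - 1) (fun d => by rw [hδι]; exact hιle d) hKι t
      (pullback.fst (ι ≫ p) i) hjt hjle (fun w hw => by
        obtain ⟨v, hv⟩ : (pullback.fst (ι ≫ p) i ≫ ι) w ∈ Set.range (pullback.fst p i) := hrange ▸ ⟨w, rfl⟩
        set d := pullback.fst (ι ≫ p) i w
        have hy : p (ι d) ∈ Set.range i := by
          have h1 : ι d ∈ Set.range (pullback.fst p i) := ⟨v, hv⟩
          rw [Scheme.Pullback.range_fst] at h1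
          exact h1
        rw [hδι] at hw
        obtain ⟨f, hf, hfI⟩ := hover (ι d) hy (by push_cast; omega)
        obtain ⟨c, a, k, hak, hcI, hγI⟩ := exists_comb hE hP s (ι d)
        obtain ⟨a', l, hl, hsum⟩ := exists_unit_comb f c a hf (hfI.trans hcI) k (hak ▸ isUnit_one)
        obtain ⟨f', hf', hf'I⟩ := exists_regular_quotient f hf a' l hl (ι.stalkMap d).hom (ι.stalkMap_surjective d)
          (by rw [hιk, hγI, hsum])
        exact ⟨f', hf', by rw [hf'I, hsIt, hfI]⟩) hΦD hζD
    -- the divisor of the image in `O(1)`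
    have hline : c1 δP O1 (cls δP (n + r) ΦP) = cls δP (n + r - 1) ζσ := by
      refine c1_zero_line hPs.2.2 hinv (secTop q s) ι ⟨hιr, hιk⟩ hdel hιle (fun d hdd => ?_) hΦP hζσ
      by_cases hz : sI s (p (ι d)) ≤ maximalIdeal (X.presheaf.stalk (p (ι d)))
      · have hzr : p (ι d) ∈ Set.range i := hZ.1 ▸ hz
        obtain ⟨z, hz'⟩ := hzr
        have h1 := delta_le_bundle hE hP hPs.2.2 hδ (ι d)
        have h2 := hd z
        rw [hz'] at h2
        obtain rfl : r = 0 := by push_cast at h2; omega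
        obtain ⟨f, hf, hfI⟩ := hover (ι d) ⟨z, hz'⟩ (by push_cast at h2 ⊢; omega)
        obtain ⟨c, a, k, hak, hcI, hγI⟩ := exists_comb hE hP s (ι d)
        obtain ⟨a', l, hl, hsum⟩ := exists_unit_comb f c a hf (hfI.trans hcI) k (hak ▸ isUnit_one)
        refine ⟨_, ?_, hγI⟩
        rw [hsum, Fin.sum_univ_one, Fin.fin_one_eq_zero l] at *
        have hf0 : IsSMulRegular (P.presheaf.stalk (ι d)) (f 0) := by
          have := hf.toIsWeaklyRegular
          rw [List.ofFn_succ, RingTheory.Sequence.isWeaklyRegular_cons_iff] at this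
          exact this.1
        exact (hl.isSMulRegular _).mul hf0
      · exact regular_sI hE hP s (ι d) hz
    -- push forward
    have hpushΦ : push ι δD δP (cls δD (n + r - 1) ΦD) = cls δP (n + r - 1) ζσ := by
      rw [push_cls ι hDs.2.2 hPs.2.2 hDc hΦDk]
      congr 1
      exact DFunLike.coe_injective (by rw [map_subschemeFun ι (𝟙 D₁) hδι hΦD, hζσ, Category.id_comp])
    obtain ⟨ζP, hζP, hζPk⟩ := exists_subscheme_cycle hPs.2.2 (pullback.fst p i)
      (k := n - ((r + 1 : ℕ) : ℤ) + r) hfst_le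
    have hpushζ : push ι δD δP (cls δD (n + r - 1 - r) ζD) = cls δP (n - ((r + 1 : ℕ) : ℤ) + r) ζP := by
      rw [push_cls ι hDs.2.2 hPs.2.2 hDc hζDk]
      rw [show n - ((r + 1 : ℕ) : ℤ) + r = n + r - 1 - r by push_cast; ring] at hζP ⊢
      congr 1
      refine DFunLike.coe_injective ?_
      rw [map_subschemeFun ι _ hδι hζD, hζP]
      exact subschemeFun_congr _ _ hrange (fun y => sI (pullTop p s) y)
        hkerj hZfst.2
    have hpullΦ : pull p δP δ (r : ℤ) (cls δ n Φ) = cls δP (n + r) ΦP := by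
      refine pull_cls p hPs.2.2 hX.2.2 hcp (mem_Zk_subschemeFun _ hΦ) ?_
      rw [hΦP, hΦ, ← subschemeFun_pullback hE hP hPs.2.2 hδ (𝟙 X) hn]
      refine subschemeFun_congr _ _ ?_ (fun _ => ⊥) (fun z => ?_) (fun z => ?_)
      · rw [Scheme.Pullback.range_fst]
        simp
      · exact (RingHom.injective_iff_ker_eq_bot _).1 (ConcreteCategory.bijective_of_isIso ((𝟙 P : P ⟶ P).stalkMap z)).1
      · exact (RingHom.injective_iff_ker_eq_bot _).1
          (ConcreteCategory.bijective_of_isIso ((pullback.fst p (𝟙 X)).stalkMap z)).1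
    have hpullζ : pull p δP δ (r : ℤ) (cls δ (n - ((r + 1 : ℕ) : ℤ)) ζ) = cls δP (n - ((r + 1 : ℕ) : ℤ) + r) ζP := by
      refine pull_cls p hPs.2.2 hX.2.2 hcp (mem_Zk_subschemeFun _ hζ) ?_
      rw [hζP, hζ, subschemeFun_pullback hE hP hPs.2.2 hδ i hd]
    have hcoef : chern δP ((Scheme.Modules.pullback p).obj E) (r + 1) (Fin.last (r + 1)) =
        chern δP (kernel q) r (Fin.last r) * c1 δP O1 := by
      have hO1 := PicLib.isFinLocFreeOfRank_one hinv
      rw [← coeff_cPoly, Fin.val_last, whitney r hPs (n := r + 1) (c := 1) rfl hK hpE hO1 hex, cPoly_line hPs hinv hO1,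
        mul_add, mul_one, Polynomial.coeff_add, coeff_cPoly_of_lt _ (Nat.lt_succ_self r), zero_add, ← mul_assoc,
        Polynomial.coeff_mul_X, Polynomial.coeff_mul_C]
      congr 1
      exact coeff_cPoly (kernel q) r (Fin.last r)
    refine pull_injective hX hE hP hPs hδ ?_
    rw [pull_chern p hPs hX r (hasRelDim_bundle hE hP hPs.2.2 hδ) hδ hE, hpullΦ, hcoef, AddMonoid.End.coe_mul,
      Function.comp_apply, hline, hpullζ, ← hpushΦ, ← push_chern ι hDs hPs hDc hK, hIH, hpushζ]

end Groth.Agent.Thom28
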