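import Groth.Agent.SerreDual.ExtShStalk

/-!
# The chosen sheaf Hom as the internal Hom, naturally in the first variable
-/

set_option autoImplicit false
set_option linter.style.haveILetI false
set_option backward.isDefEq.respectTransparency false

universe u

open CategoryTheory CategoryTheory.Limits AlgebraicGeometry
open Groth.Agent.Coherent Groth.Agent.SerreDual

namespace Groth.Agent.Thom28

variable {X : Scheme.{u}}

theorem conjugate_tensorHomAdj {F F' : X.Modules} (g : F' ⟶ F) (G : X.Modules) :
    ((conjugateEquiv (tensorHomAdj F) (tensorHomAdj F')) ((DCoh.tensorBi (X := X)).map g)).app G = precompApp g G := by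
  apply ((tensorHomAdj F').homEquiv _ _).symm.injective
  rw [Adjunction.homEquiv_counit, Adjunction.homEquiv_counit, conjugateEquiv_counit]
  have hc : ∀ H : X.Modules, (tensorHomAdj H).counit.app G = (evalBilin H G).desc := fun H => by
    simp only [tensorHomAdj, Adjunction.mkOfHomEquiv_counit_app]
    rfl
  rw [hc, hc]
  exact (eval_precomp g G).symm

theorem sheafHomIso_natural {N N' : X.Modules} [DCoh.HasSheafHom N] [DCoh.HasSheafHom N'] (a : N' ⟶ N)
    (G : X.Modules) :
    ((conjugateEquiv (DCoh.sheafHomAdj N) (DCoh.sheafHomAdj N')) ((DCoh.tensorBi (X := X)).map a)).app G ≫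
        (sheafHomIso N').hom.app G =
      (sheafHomIso N).hom.app G ≫ precompApp a G := by
  have h : ∀ (H : X.Modules) [DCoh.HasSheafHom H],
      (sheafHomIso H).hom = conjugateEquiv (DCoh.sheafHomAdj H) (tensorHomAdj H) (𝟙 _) := fun H _ => rfl
  rw [← conjugate_tensorHomAdj a G, h, h, ← NatTrans.comp_app, ← NatTrans.comp_app, conjugateEquiv_comp,
    conjugateEquiv_comp, Category.id_comp, Category.comp_id]

end Groth.Agent.Thom28
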