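import Groth.Agent.CycLib28.PB.Inj.Bundles

/-!
# A vector bundle inside a projective bundle: points and flat pullback
-/

set_option autoImplicit false
set_option linter.unusedSectionVars false
set_option linter.style.haveILetI false
set_option backward.isDefEq.respectTransparency.types false
set_option maxHeartbeats 1000000

universe u

open AlgebraicGeometry CategoryTheory CategoryTheory.Limits Opposite TopologicalSpace
open Groth.Agent.KRRPBLib Groth.Agent.Coherent Groth.Agent.PicLib Groth.Agent.CycLim28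
open Groth.Agent.CycLib28 Groth.Agent.CycLib28.PB Groth.Agent.CycLib28.PB.Inj

namespace Groth.Agent.Thom28

variable {X P : Scheme.{u}} {n : ℕ} {p : P ⟶ X} [IsProper p] {O1 : P.Modules}

/-- The identification of a vector bundle with the locus of the second summand, on points. -/
theorem exists_iso_compat {ℰ : X.Modules} (hr : FlatMod.IsFinLocFreeOfRank n ℰ)
    {q : (Scheme.Modules.pullback p).obj (ℰ ⊞ Coh.structureModule X) ⟶ O1}
    (hP : KRR.IsProjBundle p (ℰ ⊞ Coh.structureModule X) O1 q)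
    (hex : (ShortComplex.mk (biprod.inr : Coh.structureModule X ⟶ ℰ ⊞ Coh.structureModule X)
      (biprod.fst : ℰ ⊞ Coh.structureModule X ⟶ ℰ) biprod.inr_fst).ShortExact)
    [Coh.IsQCoh (ℰ ⊞ Coh.structureModule X)]
    (A : RelSpec.QCAlg X) (j : ℰ ⟶ A.toModule) (hA : RelSpec.IsSymAlg ℰ A j) :
    ∃ e : (↑(D q (oneSec (biprod.inr : Coh.structureModule X ⟶ ℰ ⊞ Coh.structureModule X))) : Scheme.{u}) ≅ A.spec,
      e.hom ≫ A.π = fD q biprod.inr ∧
      ∀ (U : X.Opens) (hU : IsAffineOpen U) (x : Γ(ℰ, U))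
        (d : (↑(D q (oneSec (biprod.inr : Coh.structureModule X ⟶ ℰ ⊞ Coh.structureModule X))) : Scheme.{u}))
        (_ : fD q biprod.inr d ∈ U) (𝔮 : ↥(Spec (A.presheaf.obj (op U)))), A.ι U hU 𝔮 = e.hom d →
        (j.app U x ∈ 𝔮.asIdeal ↔ (D q (oneSec (biprod.inr : Coh.structureModule X ⟶ ℰ ⊞ Coh.structureModule X))).ι d ∉
          P.basicOpen (cmap q biprod.inr U ((biprod.inl : ℰ ⟶ ℰ ⊞ Coh.structureModule X).app U x))) := by
  haveI := isQCoh_of_rank hr
  haveI := isAffineHom_fD hex hr hP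
  obtain ⟨ψ, hψ, _⟩ := exists_coord_vectorBundle hr hP hex A j hA
  set a : Coh.structureModule X ⟶ ℰ ⊞ Coh.structureModule X := biprod.inr
  haveI := RelVALib.isIso_toRelSpec (fD q a)
  refine ⟨asIso (RelVALib.toRelSpec (fD q a) ≫ RelSpec.QCAlg.specMap ψ), ?_, fun U hU x d hd 𝔮 h𝔮 => ?_⟩
  · rw [asIso_hom, Category.assoc, RelSpec.QCAlg.specMap_π, RelVALib.toRelSpec_π]
  let d' : (↑(fD q a ⁻¹ᵁ U) : Scheme.{u}) := ⟨d, hd⟩
  let C := RelSpec.QCAlg.directImage (fD q a)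
  have hmor : (fD q a ⁻¹ᵁ U).ι ≫ RelVALib.toRelSpec (fD q a) ≫ RelSpec.QCAlg.specMap ψ =
      (fD q a ⁻¹ᵁ U).toSpecΓ ≫ Spec.map (ψ.hom.app (op U) ≫ H8Lim.algComp (fD q a) (A := C) (𝟙 _) U) ≫ A.ι U hU := by
    rw [RelVALib.toRelSpec, reassoc_of% (H8Lim.ι_toSpec (fD q a) (A := C) (𝟙 _) ⟨U, hU⟩), H8Lim.toSpecChart,
      Category.assoc, Category.assoc, RelSpec.QCAlg.ι_specMap, Spec.map_comp_assoc]
  have h1 : A.ι U hU 𝔮 = A.ι U hU (Spec.map (ψ.hom.app (op U) ≫ H8Lim.algComp (fD q a) (A := C) (𝟙 _) U)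
      ((fD q a ⁻¹ᵁ U).toSpecΓ d')) := by
    rw [h𝔮]
    exact congrArg (fun g : (↑(fD q a ⁻¹ᵁ U) : Scheme.{u}) ⟶ A.spec => g d') hmor
  rw [(A.ι U hU).isOpenEmbedding.injective h1]
  show (ψ.hom.app (op U) ≫ H8Lim.algComp (fD q a) (A := C) (𝟙 _) U) (j.app U x) ∈
    ((fD q a ⁻¹ᵁ U).toSpecΓ d').asIdeal ↔ _
  rw [CommRingCat.comp_apply, hψ]
  let r : Γ((↑(D q (oneSec a)) : Scheme.{u}), fD q a ⁻¹ᵁ U) :=
    cmap q a U ((biprod.inl : ℰ ⟶ ℰ ⊞ Coh.structureModule X).app U x)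
  show r ∈ ((fD q a ⁻¹ᵁ U).toSpecΓ d').asIdeal ↔ _
  have h2 : d' ∈ (fD q a ⁻¹ᵁ U).toSpecΓ ⁻¹ᵁ PrimeSpectrum.basicOpen r ↔
      d' ∈ (fD q a ⁻¹ᵁ U).ι ⁻¹ᵁ (↑(D q (oneSec a)) : Scheme.{u}).basicOpen r := by
    rw [Scheme.Opens.toSpecΓ_preimage_basicOpen]
  have h3 : d ∈ (↑(D q (oneSec a)) : Scheme.{u}).basicOpen r ↔ (D q (oneSec a)).ι d ∈ P.basicOpen
      (cmap q a U ((biprod.inl : ℰ ⟶ ℰ ⊞ Coh.structureModule X).app U x)) := Scheme.Opens.mem_basicOpen_toScheme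
  rw [← h3]
  exact (not_not (a := r ∈ ((fD q a ⁻¹ᵁ U).toSpecΓ d').asIdeal)).symm.trans (not_congr h2)

variable {δ : X → ℤ} {δP : P → ℤ} {E F : X.Modules} {q : (Scheme.Modules.pullback p).obj E ⟶ O1}
  {a : Coh.structureModule X ⟶ E}
  (hX : Cyc.IsSetup X δ) (hE : FlatMod.IsFinLocFreeOfRank (n + 1) E) (hP : KRR.IsProjBundle p E O1 q)
  (hPs : Cyc.IsSetup P δP) (hδ : Cyc.DeltaCompat p δP δ)

include hX hPs hδ in
/-- The dimension functions of the locus and of a scheme isomorphic to it. -/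
theorem delta_locus {B : Scheme.{u}} (e : (↑(D q (oneSec a)) : Scheme.{u}) ≅ B) (φ : B ⟶ X)
    (he : e.hom ≫ φ = fD q a) {δB : B → ℤ} (hδB : Cyc.DeltaCompat φ δB δ)
    (d : (↑(D q (oneSec a)) : Scheme.{u})) : δB (e.hom d) = δP ((D q (oneSec a)).ι d) := by
  haveI := hX.1
  haveI := hPs.1
  have hφ : φ = e.inv ≫ fD q a := by rw [← he, Iso.inv_hom_id_assoc]
  haveI : LocallyOfFiniteType φ := by rw [hφ]; infer_instance
  let δD : (↑(D q (oneSec a)) : Scheme.{u}) → ℤ := fun y => δP ((D q (oneSec a)).ι y)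
  have hι : Cyc.DeltaCompat (D q (oneSec a)).ι δD δP := fun y => by
    refine ⟨0, ?_, by simp [δD]⟩
    let _ := ((D q (oneSec a)).ι.residueFieldMap y).hom.toAlgebra
    haveI : Algebra.IsAlgebraic (P.residueField ((D q (oneSec a)).ι y)) ((↑(D q (oneSec a)) : Scheme.{u}).residueField y) :=
      ⟨fun s => by
        obtain ⟨r, rfl⟩ := ((ConcreteCategory.isIso_iff_bijective _).1
          (Groth.Agent.DimLib.isIso_residueFieldMap_of_isPreimmersion (D q (oneSec a)).ι y)).2 s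
        exact isAlgebraic_algebraMap r⟩
    rw [trdeg_eq_zero]
    simp
  exact (delta_closedImmersion e.hom (deltaCompat_cancel (f := 𝟙 X) (f' := e.hom) (π := φ) (π' := fD q a) (δY := δ)
    (by rw [Category.comp_id, he]) (P1Inter.deltaCompat_comp _ _ hι hδ) (deltaCompat_id δ) hδB) d).symm

include hX hE hP hPs hδ in
/-- Flat pullback to a scheme isomorphic to the locus. -/
theorem pullFun_locus {B : Scheme.{u}} (e : (↑(D q (oneSec a)) : Scheme.{u}) ≅ B) (φ : B ⟶ X)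
    (he : e.hom ≫ φ = fD q a) {δB : B → ℤ} (hδB : Cyc.DeltaCompat φ δB δ) (g : X → ℤ)
    (d : (↑(D q (oneSec a)) : Scheme.{u})) :
    Cyc.pullFun φ δB δ (n : ℤ) g (e.hom d) = Cyc.pullFun p δP δ (n : ℤ) g ((D q (oneSec a)).ι d) := by
  classical
  haveI := hX.1
  haveI := hPs.1
  haveI := isQCoh_of_rank hE
  haveI : Flat p := flat_of_isProjBundle hE hP
  haveI : IsLocallyNoetherian (↑(D q (oneSec a)) : Scheme.{u}) :=
    LocallyOfFiniteType.isLocallyNoetherian (D q (oneSec a)).ι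
  haveI : LocallyOfFiniteType (fD q a) := inferInstance
  have hφ : φ = e.inv ≫ fD q a := by rw [← he, Iso.inv_hom_id_assoc]
  haveI : LocallyOfFiniteType φ := by rw [hφ]; infer_instance
  haveI : Flat φ := by rw [hφ]; infer_instance
  haveI : IsLocallyNoetherian B := LocallyOfFiniteType.isLocallyNoetherian φ
  let δD : (↑(D q (oneSec a)) : Scheme.{u}) → ℤ := fun y => δP ((D q (oneSec a)).ι y)
  have hdB : ∀ y, δB (e.hom y) = δD y := delta_locus hX hPs hδ e φ he hδB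
  have hcp := delta_genInFibre hE hP hPs.2.2 hδ
  obtain ⟨hgD, hcompD⟩ := pullFun_comp (D q (oneSec a)).ι p δD δP δ 0 n (fun _ _ => (add_zero _).symm) hcp g
  have hcφ : ∀ z, GenInFibre φ z → δB z = δ (φ z) + n := fun z hz => by
    obtain ⟨y, rfl⟩ := e.hom.surjective z
    have hy : GenInFibre (fD q a) y := by
      rw [← he]
      exact GenInFibre.comp e.hom φ (fun w hw _ => e.hom.isOpenEmbedding.injective hw) hz
    have := hgD y hy
    rw [hdB, ← Scheme.Hom.comp_apply, he]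
    simpa using this
  obtain ⟨-, hcomp⟩ := pullFun_comp e.hom φ δD δB δ 0 n (fun y _ => by rw [hdB, add_zero]) hcφ g
  have h1 := congrFun (pullFun_openImmersion e.hom (δP := δB) (δY := δD) (fun y => (hdB y).symm)
    (Cyc.pullFun φ δB δ n g)) d
  have h2 := congrFun (pullFun_openImmersion (D q (oneSec a)).ι (δP := δP) (δY := δD) (fun _ => rfl)
    (Cyc.pullFun p δP δ n g)) d
  rw [hcomp, zero_add] at h1
  rw [hcompD, zero_add] at h2
  rw [← h1, ← h2]
  simp only [he]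

include hX hE hP hPs hδ in
/-- The generic point of a fibre lies in the locus, which meets every fibre. -/
theorem eta_mem_locus [Coh.IsQCoh E] {ξ : X} {z : P} (hz : p z = ξ) (hzD : z ∈ D q (oneSec a)) :
    eta hE hP ξ 0 ∈ D q (oneSec a) := by
  haveI := hPs.1
  subst hz
  refine Specializes.mem_open ?_ (D q (oneSec a)).2 hzD
  exact flagPt_specializes hP (baseChart hE (p z)).isAffine (baseChart hE (p z)).b
    (baseChart hE (p z)).mem 0 (y := z) rfl (fun i hi => absurd hi (Fin.not_lt_zero i))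

end Groth.Agent.Thom28
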