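import Groth.Agent.Thom28.Step
import Groth.Agent.Thom28.VBLocus
import Groth.Agent.VarietyLib.Dual
import Groth.Agent.PicLib.PicMonoid
import Groth.Agent.SymAlgLib.SpecMaps

/-!
# The class of a sub vector bundle in a vector bundle
-/

set_option autoImplicit false
set_option linter.unusedSectionVars false
set_option linter.style.haveILetI false
set_option backward.isDefEq.respectTransparency.types false
set_option maxHeartbeats 1000000

universe u

open AlgebraicGeometry CategoryTheory CategoryTheory.Limits Opposite TopologicalSpace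
open Groth.Agent.KRRPBLib Groth.Agent.Coherent Groth.Agent.PicLib Groth.Agent.CycLim28
open Groth.Agent.CycLib28 Groth.Agent.CycLib28.PB Groth.Agent.CycLib28.PB.Ops Groth.Agent.CycLib28.PB.Inj

namespace Groth.Agent.Thom28

variable {X : Scheme.{u}}

theorem shortExact_one (ℰ : X.Modules) :
    (ShortComplex.mk (biprod.inr : Coh.structureModule X ⟶ ℰ ⊞ Coh.structureModule X)
      (biprod.fst : ℰ ⊞ Coh.structureModule X ⟶ ℰ) biprod.inr_fst).ShortExact :=
  ShortComplex.Splitting.shortExact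
    { r := biprod.snd
      s := biprod.inl
      f_r := biprod.inr_snd
      s_g := biprod.inl_fst
      id := by
        show biprod.snd ≫ biprod.inr + biprod.fst ≫ biprod.inl = 𝟙 _
        rw [add_comm]
        exact biprod.total }

theorem rank_biprod_one {n : ℕ} {ℰ : X.Modules} (h : FlatMod.IsFinLocFreeOfRank n ℰ) :
    FlatMod.IsFinLocFreeOfRank (n + 1) (ℰ ⊞ Coh.structureModule X) := by
  rw [Nat.add_comm n 1]
  exact isFinLocFreeOfRank_extension (shortExact_one ℰ)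
    (PicLib.isFinLocFreeOfRank_one AmpleLib.isInvertible_structureModule) h

theorem shortExact_add_one {K ℰ ℱ : X.Modules} {a : K ⟶ ℰ} {b : ℰ ⟶ ℱ} {hab : a ≫ b = 0}
    (h : (ShortComplex.mk a b hab).ShortExact) :
    (ShortComplex.mk (a ≫ (biprod.inl : ℰ ⟶ ℰ ⊞ Coh.structureModule X))
      (biprod.map b (𝟙 (Coh.structureModule X))) (by simp [reassoc_of% hab])).ShortExact := by
  haveI : Mono a := h.mono_f
  haveI : Epi b := h.epi_g
  haveI : Epi (biprod.map b (𝟙 (Coh.structureModule X))) := biprod.map_epi _ _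
  refine { exact := ShortComplex.exact_of_g_is_cokernel _ ?_ }
  have hex : ∀ {T : X.Modules} (w : ℰ ⊞ Coh.structureModule X ⟶ T), (a ≫ biprod.inl) ≫ w = 0 →
      ∃ t : ℱ ⊞ Coh.structureModule X ⟶ T, biprod.map b (𝟙 _) ≫ t = w := fun {T} w hw => by
    obtain ⟨t, ht⟩ := CokernelCofork.IsColimit.desc' h.gIsCokernel (biprod.inl ≫ w) (by rw [← Category.assoc]; exact hw)
    replace ht : b ≫ t = biprod.inl ≫ w := ht
    exact ⟨biprod.desc t (biprod.inr ≫ w), biprod.hom_ext' _ _ (by simp [ht]) (by simp)⟩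
  exact CokernelCofork.IsColimit.ofπ _ _ (fun w hw => (hex w hw).choose) (fun w hw => (hex w hw).choose_spec)
    fun w hw m hm => by rw [← cancel_epi (biprod.map b (𝟙 _)), hm, (hex w hw).choose_spec]

theorem mem_basicOpen_cmap {P : Scheme.{u}} {E : X.Modules} {p : P ⟶ X} {O1 : P.Modules}
    (q : (Scheme.Modules.pullback p).obj E ⟶ O1) (a : Coh.structureModule X ⟶ E) {U : X.Opens} (e : Γ(E, U)) {z : P}
    (hz : z ∈ img q a U) (he : z ∈ D q e) : z ∈ P.basicOpen (cmap q a U e) := by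
  set W := img q a U ⊓ D q e
  have h1 : W ≤ img q a U := inf_le_left
  have hG1 := (isGen_D q e).restrict (inf_le_right : W ≤ _)
  have hG2 := (isGen_D q (oneSec a)).restrict (h1.trans (img_le_D q a U))
  rw [resM_resM] at hG1 hG2
  have hs : res h1 (cmap q a U e) • resM O1 ((h1.trans (img_le_D q a U)).trans (D_le q (oneSec a))) (sec q (oneSec a)) =
      resM O1 ((inf_le_right : W ≤ D q e).trans (D_le q e)) (sec q e) := by
    have := congrArg (resM O1 h1) (cmap_spec q a U e)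
    rw [resM_smul, resM_resM, resM_resM, resM_resM] at this
    exact this
  have hcoef : hG2.coef le_rfl (resM O1 ((inf_le_right : W ≤ D q e).trans (D_le q e)) (sec q e)) =
      res h1 (cmap q a U e) := IsGen.coef_eq _ _ (by rw [resM_self]; exact hs)
  have hu := (hG2.isUnit_coef hG1).map (P.presheaf.germ W z ⟨hz, he⟩).hom
  rw [show (hG2.coef le_rfl _) = res h1 (cmap q a U e) from hcoef] at hu
  rw [Scheme.mem_basicOpen _ _ _ hz]
  convert hu using 1
  exact (TopCat.Presheaf.germ_res_apply P.presheaf (homOfLE h1) z ⟨hz, he⟩ _).symm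

/-- The push forward of the pull back to a sub vector bundle. -/
theorem map_pullFun_class {δ : X → ℤ} (hX : Cyc.IsSetup X δ) {m n : ℕ} {K ℰ ℱ : X.Modules}
    (hK : FlatMod.IsFinLocFreeOfRank m K) (hℰ : FlatMod.IsFinLocFreeOfRank (m + n) ℰ)
    (hℱ : FlatMod.IsFinLocFreeOfRank n ℱ) {a : K ⟶ ℰ} {b : ℰ ⟶ ℱ} {hab : a ≫ b = 0}
    (hex : (ShortComplex.mk a b hab).ShortExact)
    {A : RelSpec.QCAlg X} {j : ℰ ⟶ A.toModule} (hA : RelSpec.IsSymAlg ℰ A j)
    {A' : RelSpec.QCAlg X} {j' : ℱ ⟶ A'.toModule} (hA' : RelSpec.IsSymAlg ℱ A' j') (φ : A ⟶ A')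
    (hφ : j ≫ RelSpec.QCAlg.Hom.toModuleMap φ = b ≫ j') [IsClosedImmersion (RelSpec.QCAlg.specMap φ)]
    {δV : ↥A.spec → ℤ} (hV : Cyc.IsSetup A.spec δV) (hpδ : Cyc.DeltaCompat A.π δV δ)
    {δV' : ↥A'.spec → ℤ} (hp'δ : Cyc.DeltaCompat A'.π δV' δ)
    {k : ℤ} {α : AlgebraicCycle X ℤ} (hα : α ∈ Cyc.Zk X δ k)
    {γ : AlgebraicCycle X ℤ} (hγk : γ ∈ Cyc.Zk X δ (k - (m : ℤ)))
    (hγ : cls δ (k - (m : ℤ)) γ = (-1 : ℤ) ^ m • chern δ K m (Fin.last m) (cls δ k α))
    {β' : AlgebraicCycle A'.spec ℤ} (hβ' : ⇑β' = Cyc.pullFun A'.π δV' δ (n : ℤ) ⇑α)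
    {β : AlgebraicCycle A.spec ℤ} (hβ : ⇑β = Cyc.pullFun A.π δV δ ((m + n : ℕ) : ℤ) ⇑γ) :
    Cyc.RatEquiv δV (k + n) (AlgebraicCycle.map (RelSpec.QCAlg.specMap φ) δV' δV β') β := by
  classical
  haveI := hX.1
  haveI := hV.1
  have hG := rank_biprod_one hℰ
  have hF := rank_biprod_one hℱ
  haveI := isQCoh_of_rank hG
  haveI := isQCoh_of_rank hF
  haveI := isQCoh_of_rank hK
  obtain ⟨P, p, O1, q, δP, hP, hp, hPs, hδP⟩ := exists_projBundle_setup hX hG
  obtain ⟨Q, p', O1', q', δQ, hQ, hp', hQs, hδQ⟩ := exists_projBundle_setup hX hF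
  haveI := hPs.1
  haveI := hQs.1
  haveI : Flat p := flat_of_isProjBundle hG hP
  obtain ⟨eV, heV, hcV⟩ := exists_iso_compat hℰ hP (shortExact_one ℰ) A j hA
  obtain ⟨eV', heV', -⟩ := exists_iso_compat hℱ hQ (shortExact_one ℱ) A' j' hA'
  let one : Coh.structureModule X ⟶ ℰ ⊞ Coh.structureModule X := biprod.inr
  let one' : Coh.structureModule X ⟶ ℱ ⊞ Coh.structureModule X := biprod.inr
  let a' : K ⟶ ℰ ⊞ Coh.structureModule X := a ≫ biprod.inl
  have hex' := shortExact_add_one hex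
  set i := RelSpec.QCAlg.specMap φ
  haveI : LocallyOfFiniteType A.π := by
    rw [show A.π = eV.inv ≫ fD q one by rw [← heV, Iso.inv_hom_id_assoc]]
    infer_instance
  haveI : LocallyOfFiniteType A'.π := by
    rw [show A'.π = eV'.inv ≫ fD q' one' by rw [← heV', Iso.inv_hom_id_assoc]]
    infer_instance
  have hπi : i ≫ A.π = A'.π := RelSpec.QCAlg.specMap_π φ
  have hdi : Cyc.DeltaCompat i δV' δV :=
    deltaCompat_cancel (f := 𝟙 X) (f' := i) (π := A.π) (π' := A'.π) (δY := δ) (by rw [hπi, Category.comp_id]) hp'δ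
      (deltaCompat_id δ) hpδ
  have hδi := delta_closedImmersion i hdi
  -- the open immersion
  let J : A.spec ⟶ P := eV.inv ≫ (D q (oneSec one)).ι
  have hJp : J ≫ p = A.π := by
    show (eV.inv ≫ (D q (oneSec one)).ι) ≫ p = _
    rw [Category.assoc, show (D q (oneSec one)).ι ≫ p = fD q one from rfl, ← heV, Iso.inv_hom_id_assoc]
  have hJe : ∀ d, J (eV.hom d) = (D q (oneSec one)).ι d := fun d => by
    show (eV.inv ≫ (D q (oneSec one)).ι) (eV.hom d) = _
    rw [← Scheme.Hom.comp_apply, Iso.hom_inv_id_assoc]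
  have hpJ : ∀ v, p (J v) = A.π v := fun v => by rw [← Scheme.Hom.comp_apply, hJp]
  have hδJ : ∀ v, δV v = δP (J v) := fun v => by
    obtain ⟨d, rfl⟩ := eV.hom.surjective v
    rw [hJe]
    exact delta_locus hX hPs hδP eV A.π heV hpδ d
  -- points of the sub bundle
  have hav : ∀ w : ↥A'.spec, Avoids q a' (J (i w)) := by
    intro w U hU l hl
    have hpw : p (J (i w)) = A'.π w := by rw [hpJ, ← Scheme.Hom.comp_apply, hπi]
    obtain ⟨W, hW, hwW, hWU⟩ := TopologicalSpace.Opens.isBasis_iff_nbhd.1 X.isBasis_affineOpens hU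
    have hl' := (mem_D_res q hWU _ hwW).2 hl
    rw [← app_resM] at hl'
    obtain ⟨d, hd⟩ := eV.hom.surjective (i w)
    rw [← hd, hJe] at hl' hwW
    have hdW : fD q one d ∈ W := hwW
    obtain ⟨t, rfl⟩ : ∃ t, A'.ι W hW t = w := (A'.π_preimage W hW).le (show A'.π w ∈ W by
      rw [← hpw, ← hd, hJe]; exact hdW)
    have hid : A.ι W hW (Spec.map (φ.hom.app (op W)) t) = eV.hom d := by
      rw [hd]
      exact (congrArg (fun g : Spec (A'.presheaf.obj (op W)) ⟶ A.spec => g t)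
        (RelSpec.QCAlg.ι_specMap W hW φ)).symm
    refine (hcV W hW (a.app W (resM K hWU l)) d hdW _ hid).1 ?_
      (mem_basicOpen_cmap q one _ ⟨d, hdW, rfl⟩ hl')
    show φ.hom.app (op W) (j.app W (a.app W (resM K hWU l))) ∈ t.asIdeal
    have h0 : φ.hom.app (op W) (j.app W (a.app W (resM K hWU l))) = j'.app W (b.app W (a.app W (resM K hWU l))) :=
      congrArg (fun g : ℰ ⟶ A'.toModule => g.app W (a.app W (resM K hWU l))) hφ
    rw [h0, show b.app W (a.app W (resM K hWU l)) = 0 from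
      sections_zero (S := ShortComplex.mk a b hab) W (resM K hWU l)]
    rw [map_zero]
    exact t.asIdeal.zero_mem
  have hgen : ∀ ξ : X, ∃ w : ↥A'.spec, A'.π w = ξ ∧ δV' w = δ ξ + n ∧ β' w = α ξ := by
    intro ξ
    obtain ⟨W, hW, v, hξ, hv⟩ := exists_adapted (shortExact_one ℱ) hℱ ξ
    have hz : flagPt hQ hW v hξ 0 ∈ D q' (oneSec one') := by
      have h1 : flagPt hQ hW v hξ 0 ∈ D q' (v 0) := (flagPtIn_mem_D_iff hQ hW v hξ le_rfl 0).2 le_rfl
      rw [hv, D_res] at h1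
      exact h1.1
    have heq : flagPt hQ hW v hξ 0 = eta hF hQ ξ 0 := eq_eta_zero hF hQ hQs.2.2 hδQ (π_flagPtIn _ _ _ _ _ _) (by
      rw [delta_flagPt hQ _ _ _ hQs.2.2 hδQ]; simp)
    refine ⟨eV'.hom ⟨flagPt hQ hW v hξ 0, hz⟩, ?_, ?_, ?_⟩
    · rw [← Scheme.Hom.comp_apply, heV']
      exact π_flagPtIn _ _ _ _ _ _
    · rw [delta_locus hX hQs hδQ eV' A'.π heV' hp'δ]
      show δQ (flagPt hQ hW v hξ 0) = _
      rw [delta_flagPt hQ _ _ _ hQs.2.2 hδQ]
      simp
    · rw [hβ', pullFun_locus hX hF hQ hQs hδQ eV' A'.π heV' hp'δ]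
      show Cyc.pullFun p' δQ δ (n : ℤ) _ (flagPt hQ hW v hξ 0) = _
      rw [pullFun_apply hF hQ hQs.2.2 hδQ, show p' (flagPt hQ hW v hξ 0) = ξ from π_flagPtIn _ _ _ _ _ _,
        if_pos heq]
  have hzero : ∀ w : ↥A'.spec, ¬ δV' w = δ (A'.π w) + n → β' w = 0 := fun w hw => by
    rw [hβ', Cyc.pullFun, if_neg hw]
  -- the cycle on the projective bundle
  obtain ⟨y, hy⟩ : ∃ y : AlgebraicCycle P ℤ,
      ∀ z, y z = if IsSub q δ δP a' n (p z) z then α (p z) else 0 := by
    refine ⟨⟨fun z => if IsSub q δ δP a' n (p z) z then α (p z) else 0, fun _ _ => trivial, fun z _ => ?_⟩,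
      fun z => rfl⟩
    obtain ⟨t, ht, hfin⟩ := α.supportLocallyFiniteWithinDomain' (p z) trivial
    refine ⟨p ⁻¹' t, p.continuous.continuousAt.preimage_mem_nhds ht, ?_⟩
    choose z₀ hz₀ using fun ξ => exists_sub hex' hK hF hP hPs.2.2 hδP ξ
    refine (hfin.image z₀).subset fun w ⟨hw1, hw2⟩ => ?_
    rw [Function.mem_support] at hw2
    split_ifs at hw2 with hs
    · exact ⟨p w, ⟨hw1, hw2⟩, isSub_unique hex' hK hF hP hPs.2.2 hδP (hz₀ (p w)).1 hs⟩
    · exact absurd rfl hw2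
  have hmap : ∀ v, AlgebraicCycle.map i δV' δV β' v = y (J v) := by
    intro v
    rw [hy]
    by_cases hS : IsSub q δ δP a' n (p (J v)) (J v)
    · obtain ⟨w, hw1, hw2, hw3⟩ := hgen (p (J v))
      have hsub : IsSub q δ δP a' n (p (J v)) (J (i w)) :=
        ⟨by rw [hpJ, ← Scheme.Hom.comp_apply, hπi, hw1], by rw [← hδJ, ← hδi, hw2], hav w⟩
      have hJi := isSub_unique hex' hK hF hP hPs.2.2 hδP hsub hS
      have hiw : i w = v := J.isOpenEmbedding.injective hJi
      rw [if_pos hS, map_apply_finset i δV' δV β' v {w} (fun z hz => by rw [Finset.mem_singleton.1 hz, hiw])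
        (fun z hz _ => Finset.mem_singleton.2 (i.isClosedEmbedding.injective (hz.trans hiw.symm))),
        Finset.sum_singleton, AlgebraicCycle.mapCoeff, if_pos (hδi w), WeilLib.residueDegree_preimmersion, hw3]
      simp
    · rw [if_neg hS, map_apply_finset i δV' δV β' v ∅ (fun z hz => absurd hz (Finset.notMem_empty z))
        (fun z hz hne => absurd ?_ hne), Finset.sum_empty]
      refine hzero z fun hd => ?_
      subst hz
      refine hS ⟨rfl, ?_, hav z⟩
      rw [← hδJ, ← hδi, hd, hpJ, ← Scheme.Hom.comp_apply, hπi]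
  -- classes
  obtain ⟨M, ⟨iOM⟩⟩ := VarietyLib.exists_isInverseOf (isInvertible_of_rankOne hP.invertible)
  have hinv := isInvertible_of_rankOne hP.invertible
  have hM : PicF.IsInvertible M := PicLib.PicM.isInvertible_of_tensor hinv
    (fun z => let ⟨U, hz, ⟨eU⟩⟩ := AmpleLib.isInvertible_structureModule (X := P) z
      ⟨U, hz, ⟨(Scheme.Modules.restrictFunctor U.ι).mapIso iOM ≪≫ eU⟩⟩)
  have hsub := sub_class m hX (n := n) hK hG hF hex' hP hp hPs hδP hM ⟨AmpleLib.tensorComm _ _ ≪≫ iOM⟩ hα y hy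
  have hJc : Cyc.DeltaCompat J δV δP :=
    deltaCompat_cancel (f := 𝟙 X) (f' := J) (π := p) (π' := A.π) (δY := δ) (by rw [hJp, Category.comp_id]) hpδ
      (deltaCompat_id δ) hδP
  have hJrel : Cyc.HasRelDim J 0 := by
    rw [FlatMor12.hasRelDim_iff]
    exact fun v _ => trdegHom_eq_zero J hJc v (hδJ v)
  have hyk : y ∈ Cyc.Zk P δP (k + n) := fun z hz => by
    rw [hy]
    split_ifs with hs
    · exact hα _ (fun e => hz (by rw [hs.2.1, e]))
    · rfl
  have hmk : AlgebraicCycle.map i δV' δV β' ∈ Cyc.Zk A.spec δV (k + n) := fun v hv => by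
    rw [hmap]
    exact hyk _ (by rw [← hδJ]; exact hv)
  haveI : Flat A.π := by rw [← hJp]; infer_instance
  have hpK := Groth.Agent.VarietyLib.isFinLocFreeOfRank_pullback p hK
  have hπrel : Cyc.HasRelDim A.π (m + n) := by
    rw [← hJp]
    simpa using hasRelDim_comp (f := J) (g := p) hJrel (hasRelDim_bundle hG hP hPs.2.2 hδP)
  have hgπ := delta_of_hasRelDim A.π hπrel hpδ
  have hβk : β ∈ Cyc.Zk A.spec δV (k + n) := by
    have := pullFun_mem_Zk A.π δV δ ((m + n : ℕ) : ℤ) hγk hβ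
    rwa [show k - (m : ℤ) + ((m + n : ℕ) : ℤ) = k + n by push_cast; ring] at this
  refine (cls_eq_iff hV.2.2 hmk hβk).1 ?_
  have h1 : pull J δV δP ((0 : ℕ) : ℤ) (cls δP (k + n) y) = cls δV (k + n) (AlgebraicCycle.map i δV' δV β') := by
    rw [pull_cls J hV.2.2 hPs.2.2 (fun v _ => by simp [hδJ]) hyk (β := AlgebraicCycle.map i δV' δV β') (by
      show _ = Cyc.pullFun J δV δP (0 : ℤ) ⇑y
      rw [pullFun_openImmersion J hδJ]
      exact funext hmap)]
    congr 1
    simp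
  have h2 : cls δV (k + n) β = pull A.π δV δ ((m + n : ℕ) : ℤ) (cls δ (k - (m : ℤ)) γ) := by
    rw [pull_cls A.π hV.2.2 hX.2.2 hgπ hγk hβ]
    congr 1
    push_cast
    ring
  have hJM : Nonempty ((Scheme.Modules.pullback J).obj M ≅ Coh.structureModule A.spec) := by
    have hle : (⊤ : A.spec.Opens) ≤ J ⁻¹ᵁ D q (oneSec one) := fun v _ => by
      obtain ⟨d, rfl⟩ := eV.hom.surjective v
      show J (eV.hom d) ∈ D q (oneSec one)
      rw [hJe]
      exact d.2
    have hg := (isGen_pullSec J (isGen_D q (oneSec one)) hinv).restrict hle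
    haveI : IsIso (unitDesc ((Scheme.Modules.pullback J).obj O1)
        (resM _ hle (pullSec J (resM O1 (D_le q (oneSec one)) (sec q (oneSec one)))))) := isIso_of_isGen _ (by
      rw [unitVal_unitDesc, resM_self]
      exact hg)
    obtain ⟨eO⟩ := AmpleLib.exists_pullStructureIso J
    let eu : Coh.structureModule A.spec ≅ (Scheme.Modules.pullback J).obj O1 :=
      asIso (unitDesc ((Scheme.Modules.pullback J).obj O1)
        (resM _ hle (pullSec J (resM O1 (D_le q (oneSec one)) (sec q (oneSec one))))))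
    exact ⟨(AmpleLib.unitTensorIso _).symm ≪≫ PicGrp.tensorModIso eu (Iso.refl _) ≪≫
      (DCat.PullTensor.pullTensorIso J O1 M).symm ≪≫ (Scheme.Modules.pullback J).mapIso iOM ≪≫ eO⟩
  obtain ⟨eM⟩ := hJM
  have hc : pull J δV δP ((0 : ℕ) : ℤ) (chern δP (CohB1.tensorMod ((Scheme.Modules.pullback p).obj K) M) m (Fin.last m)
        (pull p δP δ ((m + n : ℕ) : ℤ) (cls δ k α))) =
      pull A.π δV δ ((m + n : ℕ) : ℤ) (chern δ K m (Fin.last m) (cls δ k α)) := by
    rw [pull_chern J hV hPs 0 hJrel hJc (rank_tensor_line hpK hM),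
      pull_chern A.π hV hX (m + n) hπrel hpδ hK]
    have iK : (Scheme.Modules.pullback J).obj (CohB1.tensorMod ((Scheme.Modules.pullback p).obj K) M) ≅
        (Scheme.Modules.pullback A.π).obj K :=
      DCat.PullTensor.pullTensorIso J _ M ≪≫
        PicGrp.tensorModIso (Iso.refl _) eM ≪≫ AmpleLib.tensorComm _ _ ≪≫ AmpleLib.unitTensorIso _ ≪≫
        (Scheme.Modules.pullbackComp J p).app K ≪≫ (Scheme.Modules.pullbackCongr hJp).app K
    rw [chern_iso hV (Groth.Agent.VarietyLib.isFinLocFreeOfRank_pullback A.π hK)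
      (Groth.Agent.VarietyLib.isFinLocFreeOfRank_pullback J (rank_tensor_line hpK hM)) iK]
    have h3 := pull_comp J p hX hPs hV hJrel (hasRelDim_bundle hG hP hPs.2.2 hδP) hJc hδP
    rw [Nat.zero_add, hJp] at h3
    rw [h3]
    rfl
  rw [← h1, hsub, h2, hγ, map_zsmul, map_zsmul, hc]

end Groth.Agent.Thom28
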