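import Groth.Agent.Thom28.HyperBundle
import Groth.Agent.SymAlgLib.Consequences
import Groth.Agent.SymAlgLib.SpecMaps
import Groth.Agent.RelSpecLib.Basic
import Groth.Agent.CycLib28.PB.ChernExist
import Groth.Agent.VarietyLib.DegBasic
import Groth.Agent.VarietyLib.DetWedge
import Groth.Agent.Thom28.Step

/-!
# Cycles on a sub vector bundle with trivial quotient line bundle
-/

set_option autoImplicit false
set_option linter.unusedSectionVars false
set_option linter.style.haveILetI false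
set_option backward.isDefEq.respectTransparency.types false
set_option maxHeartbeats 1000000

universe u

open AlgebraicGeometry CategoryTheory CategoryTheory.Limits Opposite TopologicalSpace IsLocalRing
open Groth.Agent.Coherent Groth.Agent.PicLib Groth.Agent.CycLim28
open Groth.Agent.CycLib28 Groth.Agent.CycLib28.PB Groth.Agent.CycLib28.PB.Span

namespace Groth.Agent.Thom28

section Poly

variable {X : Scheme.{u}} {E : X.Modules} {A : RelSpec.QCAlg X} {j : E ⟶ A.toModule}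

theorem exists_polyEquivN [Coh.IsQCoh E] (hA : RelSpec.IsSymAlg E A j) {U : X.Opens} (hU : IsAffineOpen U) {n : ℕ}
    (b : Module.Basis (Fin n) Γ(X, U) Γ(E, U)) :
    ∃ e : MvPolynomial (ULift.{u} (Fin n)) Γ(X, U) ≃+* A.presheaf.obj (op U),
      ∀ r, e (MvPolynomial.C r) = A.str.app (op U) r := by
  classical
  let G := MvPolynomial.eval₂Hom (A.str.app (op U)).hom
    (fun i : ULift.{u} (Fin n) => (show A.presheaf.obj (op U) from j.app U (b i.down)))
  let l : Γ(E, U) →+ MvPolynomial (ULift.{u} (Fin n)) Γ(X, U) :=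
    AddMonoidHom.mk' (fun m => ∑ i, MvPolynomial.C (b.repr m i) * MvPolynomial.X (⟨i⟩ : ULift.{u} (Fin n))) fun m m' => by
      simp only [map_add, Finsupp.add_apply, add_mul, Finset.sum_add_distrib]
  obtain ⟨F, hF₀, hF₁⟩ := SymAlgLib.exists_sectionsHom hA hU (MvPolynomial.C : Γ(X, U) →+* _) l fun r m => by
    show ∑ i, MvPolynomial.C (b.repr (r • m) i) * MvPolynomial.X (⟨i⟩ : ULift.{u} (Fin n)) = MvPolynomial.C r * ∑ i, _
    rw [Finset.mul_sum]
    refine Finset.sum_congr rfl fun i _ => ?_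
    rw [map_smul, Finsupp.smul_apply, smul_eq_mul, map_mul, mul_assoc]
  have hG : ∀ r, G (MvPolynomial.C r) = A.str.app (op U) r := fun r => MvPolynomial.eval₂Hom_C _ _ _
  have h₂ : F.comp G = RingHom.id _ := by
    refine MvPolynomial.ringHom_ext (fun r => ?_) fun i => ?_
    · show F (G (MvPolynomial.C r)) = _
      rw [hG]; exact hF₀ r
    · show F (G (MvPolynomial.X i)) = MvPolynomial.X i
      rw [MvPolynomial.eval₂Hom_X']
      refine (hF₁ _).trans ?_
      show ∑ k, MvPolynomial.C (b.repr (b i.down) k) * MvPolynomial.X (⟨k⟩ : ULift.{u} (Fin n)) = _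
      rw [b.repr_self, Finset.sum_eq_single i.down]
      · simp
      · intro k _ hk
        simp [Finsupp.single_eq_of_ne hk]
      · simp
  refine ⟨RingEquiv.ofRingHom G F (SymAlgLib.sectionsHom_ext hA hU (fun r => ?_) fun m => ?_) h₂, hG⟩
  · show G (F (A.str.app (op U) r)) = A.str.app (op U) r
    rw [hF₀]; exact hG r
  · show G (F _) = _
    rw [hF₁]
    show G (∑ k, MvPolynomial.C (b.repr m k) * MvPolynomial.X (⟨k⟩ : ULift.{u} (Fin n))) = _
    conv_rhs => rw [← b.sum_repr m]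
    rw [map_sum, map_sum]
    refine Finset.sum_congr rfl fun k _ => ?_
    rw [map_mul, hG, MvPolynomial.eval₂Hom_X', Scheme.Modules.Hom.app_smul]
    rfl

theorem lft_affineBundle {X Y : Scheme.{u}} {f : X ⟶ Y} {r : ℕ} (hf : IsAffineBundle f r) : LocallyOfFiniteType f := by
  choose U hU e he using hf
  refine IsZariskiLocalAtTarget.of_iSup_eq_top U (eq_top_iff.2 fun y _ =>
    TopologicalSpace.Opens.mem_iSup.2 ⟨y, hU y⟩) fun y => ?_
  rw [← he y]
  infer_instance

/-- The total space over an open where the module has rank `n` is an affine bundle. -/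
theorem isAffineBundle_over [Coh.IsQCoh E] (hA : RelSpec.IsSymAlg E A j) {n : ℕ} {U : X.Opens}
    (hU : ∀ x ∈ U, ∃ W : X.Opens, IsAffineOpen W ∧ x ∈ W ∧ W ≤ U ∧ Nonempty (Module.Basis (Fin n) Γ(X, W) Γ(E, W)))
    {T : Scheme.{u}} (j₀ : T ⟶ A.spec) [IsOpenImmersion j₀] (hr : Set.range j₀ = A.π ⁻¹ᵁ U) (g : T ⟶ U)
    (hg : g ≫ U.ι = j₀ ≫ A.π) : IsAffineBundle g n := by
  intro y
  obtain ⟨W, hW, hyW, hWU, ⟨b⟩⟩ := hU y.1 y.2
  obtain ⟨e, he⟩ := exists_polyEquivN hA hW b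
  let V₀ : U.toScheme.Opens := U.ι ⁻¹ᵁ W
  refine ⟨V₀, hyW, ?_⟩
  have hr₁ : Set.range ((g ⁻¹ᵁ V₀).ι ≫ j₀) = Set.range (A.ι W hW) := by
    rw [show Set.range (A.ι W hW) = ((A.π ⁻¹ᵁ W : A.spec.Opens) : Set A.spec) by rw [A.π_preimage W hW]; rfl,
      Scheme.Hom.comp_base, TopCat.coe_comp, Set.range_comp, Scheme.Opens.range_ι]
    have hcomm : ∀ t, U.ι (g t) = A.π (j₀ t) := fun t => congrArg (fun f : T ⟶ X => f t) hg
    ext z
    constructor
    · rintro ⟨t, ht, rfl⟩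
      show A.π (j₀ t) ∈ W
      rw [← hcomm]
      exact ht
    · intro hz
      obtain ⟨t, rfl⟩ : z ∈ Set.range j₀ := hr ▸ hWU hz
      exact ⟨t, show U.ι (g t) ∈ W by rw [hcomm]; exact hz, rfl⟩
  have hr₂ : Set.range hW.fromSpec = Set.range (V₀.ι ≫ U.ι) := by
    rw [hW.range_fromSpec, Scheme.Hom.comp_base, TopCat.coe_comp, Set.range_comp, Scheme.Opens.range_ι]
    exact (Set.image_preimage_eq_of_subset (by rw [Scheme.Opens.range_ι]; exact hWU)).symm
  let θ := IsOpenImmersion.isoOfRangeEq hW.fromSpec (V₀.ι ≫ U.ι) hr₂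
  let k := IsOpenImmersion.isoOfRangeEq ((g ⁻¹ᵁ V₀).ι ≫ j₀) (A.ι W hW) hr₁
  haveI : IsIso (CommRingCat.ofHom e.toRingHom : CommRingCat.of (MvPolynomial (ULift.{u} (Fin n)) Γ(X, W)) ⟶ _) :=
    (ConcreteCategory.isIso_iff_bijective _).2 e.bijective
  haveI : IsIso (AffineSpace.map (ULift.{u} (Fin n)) θ.hom) :=
    ⟨AffineSpace.map _ θ.inv, by rw [← AffineSpace.map_comp, θ.hom_inv_id, AffineSpace.map_id],
      by rw [← AffineSpace.map_comp, θ.inv_hom_id, AffineSpace.map_id]⟩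
  refine ⟨k ≪≫ asIso (Spec.map (CommRingCat.ofHom e.toRingHom)) ≪≫
    (AffineSpace.SpecIso (ULift.{u} (Fin n)) Γ(X, W)).symm ≪≫ asIso (AffineSpace.map (ULift.{u} (Fin n)) θ.hom), ?_⟩
  rw [← cancel_mono (V₀.ι ≫ U.ι)]
  simp only [Iso.trans_hom, asIso_hom, Iso.symm_hom, Category.assoc, AffineSpace.map_over_assoc]
  rw [show θ.hom ≫ V₀.ι ≫ U.ι = hW.fromSpec from IsOpenImmersion.isoOfRangeEq_hom_fac _ _ _,
    AffineSpace.SpecIso_inv_over_assoc, ← Spec.map_comp_assoc, morphismRestrict_ι_assoc, hg, ← Category.assoc _ j₀,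
    ← IsOpenImmersion.isoOfRangeEq_hom_fac _ _ hr₁, Category.assoc, A.ι_π]
  congr 3
  exact CommRingCat.hom_ext (RingHom.ext he)

end Poly

section Glue

theorem ratEquivZero_glue {X : Scheme.{u}} [IsLocallyNoetherian X] {δ : X → ℤ} (hδ : Cyc.IsDimFun X δ) {J : Type u}
    (V : J → X.Opens) (hcov : ∀ x, ∃ a, x ∈ V a) (hdis : ∀ a b x, x ∈ V a → x ∈ V b → a = b) {k : ℤ}
    (c : AlgebraicCycle X ℤ)
    (h : ∀ a, ∃ d : AlgebraicCycle (V a).toScheme ℤ,
      Cyc.RatEquivZero (fun v => δ ((V a).ι v)) k d ∧ ∀ v, d v = c ((V a).ι v)) : Cyc.RatEquivZero δ k c := by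
  classical
  choose d hd hdc using h
  choose ι ξ f hξ hf hloc hsum using hd
  have hres : ∀ a (i : ι a), ∃ g, ((V a).ι.residueFieldMap (ξ a i)).hom g = f a i := fun a i => by
    haveI := DimLib.isIso_residueFieldMap_of_isPreimmersion (V a).ι (ξ a i)
    exact (ConcreteCategory.bijective_of_isIso ((V a).ι.residueFieldMap (ξ a i))).2 (f a i)
  choose g hg using hres
  have hg0 : ∀ a i, g a i ≠ 0 := fun a i h0 => hf a i (by rw [← hg a i, h0]; exact map_zero _)
  have hstay : ∀ a (v : (V a).toScheme) (x : X), (V a).ι v ⤳ x → ∀ b, x ∈ V b → a = b := fun a v x hs b hb =>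
    hdis a b _ v.2 (hs.mem_open (V b).2 hb)
  refine ⟨Σ a, ι a, fun p => (V p.1).ι (ξ p.1 p.2), fun p => g p.1 p.2, fun p => hξ _ _, fun p => hg0 _ _,
    fun x => ?_, fun x => ?_⟩
  · obtain ⟨b, hb⟩ := hcov x
    obtain ⟨O, hO, hxO, hfin⟩ := hloc b ⟨x, hb⟩
    refine ⟨(V b).ι '' O, (V b).ι.isOpenEmbedding.isOpenMap O hO, ⟨⟨x, hb⟩, hxO, rfl⟩, ?_⟩
    refine (hfin.image fun i => (⟨b, i⟩ : Σ a, ι a)).subset ?_
    rintro ⟨a, i⟩ ⟨_, hz, ⟨w, hw, rfl⟩⟩
    obtain rfl := hstay a (ξ a i) _ (specializes_iff_mem_closure.2 hz) b w.2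
    refine ⟨i, ⟨w, ?_, hw⟩, rfl⟩
    exact specializes_iff_mem_closure.1
      ((V a).ι.isOpenEmbedding.isInducing.specializes_iff.1 (specializes_iff_mem_closure.2 hz))
  · obtain ⟨b, hb⟩ := hcov x
    obtain ⟨w, rfl⟩ : ∃ w, (V b).ι w = x := ⟨⟨x, hb⟩, rfl⟩
    have hsupp : Function.support (fun p : Σ a, ι a => Cyc.divFun δ ((V p.1).ι (ξ p.1 p.2)) (g p.1 p.2) ((V b).ι w)) ⊆
        Set.range (Sigma.mk b) := by
      rintro ⟨a, i⟩ hp
      by_cases hs : (V a).ι (ξ a i) ⤳ (V b).ι w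
      · obtain rfl := hstay a (ξ a i) _ hs b hb
        exact ⟨i, rfl⟩
      · exact absurd (divFun_eq_zero_of_not_specializes _ hs) hp
    rw [← hdc, hsum, ← finsum_mem_univ (fun p : Σ a, ι a => _),
      finsum_mem_inter_support_eq' _ Set.univ (Set.range (Sigma.mk b)) (fun p hp => by
        obtain ⟨i, rfl⟩ := hsupp hp
        simp),
      finsum_mem_range sigma_mk_injective]
    refine finsum_congr fun i => ?_
    show Cyc.divFun _ (ξ b i) (f b i) w = Cyc.divFun δ ((V b).ι (ξ b i)) (g b i) ((V b).ι w)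
    rw [← hg, divFun_openImmersion (V b).ι hδ (ξ b i) w _ (hg0 b i)]

end Glue

section Main

variable {X : Scheme.{u}}

/-- The open locus of rank `n`. -/
def rankLocus (F : X.Modules) (n : ℕ) : X.Opens :=
  sSup {W | IsAffineOpen W ∧ Nonempty (Module.Basis (Fin n) Γ(X, W) Γ(F, W))}

theorem mem_rankLocus {F : X.Modules} {n : ℕ} {x : X} :
    x ∈ rankLocus F n ↔ ∃ W : X.Opens, IsAffineOpen W ∧ x ∈ W ∧ Nonempty (Module.Basis (Fin n) Γ(X, W) Γ(F, W)) := by
  rw [rankLocus, TopologicalSpace.Opens.mem_sSup]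
  exact ⟨fun ⟨W, ⟨h1, h2⟩, h3⟩ => ⟨W, h1, h3, h2⟩, fun ⟨W, h1, h3, h2⟩ => ⟨W, ⟨h1, h2⟩, h3⟩⟩

theorem rankLocus_eq {F : X.Modules} [Coh.IsQCoh F] {n m : ℕ} {x : X} (h : x ∈ rankLocus F n)
    (h' : x ∈ rankLocus F m) : n = m := by
  obtain ⟨W, hW, hx, ⟨b⟩⟩ := mem_rankLocus.1 h
  obtain ⟨W', hW', hx', ⟨b'⟩⟩ := mem_rankLocus.1 h'
  obtain ⟨c, -⟩ := VarietyLib.exists_basis_stalk_of_basis F hW b hx
  obtain ⟨c', -⟩ := VarietyLib.exists_basis_stalk_of_basis F hW' b' hx'
  have h1 := Module.finrank_eq_card_basis c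
  have h2 := Module.finrank_eq_card_basis c'
  rw [h1, Fintype.card_fin, Fintype.card_fin] at h2
  exact h2

theorem exists_mem_rankLocus {F : X.Modules} (hF : FlatMod.IsFinLocFree F) (x : X) : ∃ n, x ∈ rankLocus F n := by
  obtain ⟨U, n, e, hxU, he⟩ := exists_isBasisOn hF x
  obtain ⟨W, hW, hxW, hWU⟩ := TopologicalSpace.Opens.isBasis_iff_nbhd.1 X.isBasis_affineOpens hxU
  obtain ⟨b, -⟩ := exists_basis_of_isBasisOn he hWU
  exact ⟨n, mem_rankLocus.2 ⟨W, hW, hxW, ⟨b⟩⟩⟩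

/-- Splitting over an affine open. -/
theorem split_data {S : ShortComplex X.Modules} (hS : S.ShortExact) [Coh.IsQCoh S.X₂] [Coh.IsQCoh S.X₃]
    [Coh.IsQCoh S.X₁] {W : X.Opens} (hW : IsAffineOpen W) {n : ℕ} (b : Module.Basis (Fin n) Γ(X, W) Γ(S.X₃, W))
    (one : Γ(S.X₁, W)) (hone : Function.Bijective fun r : Γ(X, W) => r • one) :
    ∃ l : Γ(S.X₃, W) →ₗ[Γ(X, W)] Γ(S.X₂, W), (∀ y, S.g.app W (l y) = y) ∧
      (∀ x, ∃ r : Γ(X, W), x = l (S.g.app W x) + r • S.f.app W one) ∧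
      Nonempty (Module.Basis (Fin (n + 1)) Γ(X, W) Γ(S.X₂, W)) := by
  classical
  choose lift hlift using fun i => sections_surjective hS hW (b i)
  let l := b.constr Γ(X, W) lift
  have hl : ∀ y, S.g.app W (l y) = y := fun y => by
    conv_rhs => rw [← b.sum_repr y]
    rw [show l y = ∑ i, b.repr y i • lift i from (b.constr_apply_fintype _ _ _), map_sum]
    exact Finset.sum_congr rfl fun i _ => by rw [Scheme.Modules.Hom.app_smul, hlift]
  have hdec : ∀ x, ∃ r : Γ(X, W), x = l (S.g.app W x) + r • S.f.app W one := fun x => by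
    obtain ⟨t, ht⟩ := sections_exact hS (x - l (S.g.app W x)) (by rw [map_sub, hl, sub_self])
    obtain ⟨r, rfl⟩ := hone.2 t
    exact ⟨r, by rw [← Scheme.Modules.Hom.app_smul, ht, add_sub_cancel]⟩
  refine ⟨l, hl, hdec, ?_⟩
  let φ : (Γ(X, W) × (Fin n → Γ(X, W))) →ₗ[Γ(X, W)] Γ(S.X₂, W) :=
    (LinearMap.toSpanSingleton Γ(X, W) Γ(S.X₂, W) (S.f.app W one)).coprod (l.comp b.equivFun.symm.toLinearMap)
  have hg : ∀ r y, S.g.app W (φ (r, y)) = b.equivFun.symm y := fun r y => by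
    show S.g.app W (r • S.f.app W one + l (b.equivFun.symm y)) = _
    rw [map_add, Scheme.Modules.Hom.app_smul, sections_zero W one, smul_zero, zero_add, hl]
  have hinj : Function.Injective φ := by
    rw [← LinearMap.ker_eq_bot, LinearMap.ker_eq_bot']
    rintro ⟨r, y⟩ h
    have h1 := hg r y
    rw [h, map_zero, eq_comm, LinearEquiv.map_eq_zero_iff] at h1
    subst h1
    have h2 : S.f.app W (r • one) = 0 := by
      rw [Scheme.Modules.Hom.app_smul]
      simpa [φ] using h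
    haveI := hS.mono_f
    have h3 : r • one = 0 := sections_injective hS W (h2.trans (map_zero _).symm)
    rw [hone.1 (show r • one = (0 : Γ(X, W)) • one by rw [h3, zero_smul])]
    rfl
  have hsurj : Function.Surjective φ := fun x => by
    obtain ⟨r, hr⟩ := hdec x
    refine ⟨(r, b.equivFun (S.g.app W x)), ?_⟩
    show r • S.f.app W one + l (b.equivFun.symm (b.equivFun (S.g.app W x))) = x
    rw [LinearEquiv.symm_apply_apply, add_comm]
    exact hr.symm
  exact ⟨((Module.Basis.singleton (Fin 1) Γ(X, W)).prod (Pi.basisFun Γ(X, W) (Fin n))).reindex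
    (finSumFinEquiv.trans (finCongr (Nat.add_comm 1 n))) |>.map (LinearEquiv.ofBijective φ ⟨hinj, hsurj⟩)⟩

/-- Cycles on a sub bundle with trivial quotient vanish on the bundle. -/
theorem ratEquivZero_corankOne {δ : X → ℤ} (hX : Cyc.IsSetup X δ) {S : ShortComplex X.Modules} (hS : S.ShortExact)
    (e : S.X₁ ≅ Coh.structureModule X) [Coh.IsQCoh S.X₁] [Coh.IsQCoh S.X₂] [Coh.IsQCoh S.X₃]
    (hF : FlatMod.IsFinLocFree S.X₃) {AE : RelSpec.QCAlg X} {jE : S.X₂ ⟶ AE.toModule}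
    (hAE : RelSpec.IsSymAlg S.X₂ AE jE) {AF : RelSpec.QCAlg X} {jF : S.X₃ ⟶ AF.toModule}
    (hAF : RelSpec.IsSymAlg S.X₃ AF jF) (φ : AE ⟶ AF) (hφ : jE ≫ RelSpec.QCAlg.Hom.toModuleMap φ = S.g ≫ jF)
    [QuasiCompact (RelSpec.QCAlg.specMap φ)]
    {δE : ↥AE.spec → ℤ} (hEs : Cyc.IsSetup AE.spec δE) (hδE : Cyc.DeltaCompat AE.π δE δ) {δF : ↥AF.spec → ℤ}
    (hFs : Cyc.IsSetup AF.spec δF) (hδF : Cyc.DeltaCompat AF.π δF δ) {k : ℤ} (α : AlgebraicCycle AF.spec ℤ)
    (hα : α ∈ Cyc.Zk AF.spec δF k) :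
    Cyc.RatEquivZero δE k (AlgebraicCycle.map (RelSpec.QCAlg.specMap φ) δF δE α) := by
  classical
  haveI := hX.1
  haveI := hEs.1
  haveI := hFs.1
  haveI := hS.epi_g
  set i := RelSpec.QCAlg.specMap φ
  have hsurj : ∀ (W : X.Opens), IsAffineOpen W → Function.Surjective (φ.hom.app (op W)).hom := fun W hW =>
    SymAlgLib.surjective_of_epi S.g hAF φ hφ hW
  haveI : IsClosedImmersion i := SymAlgLib.isClosedImmersion_specMap φ hsurj
  have hπi : i ≫ AE.π = AF.π := RelSpec.QCAlg.specMap_π φ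
  let one : Γ(S.X₁, ⊤) := e.inv.app ⊤ (1 : Γ(X, ⊤))
  have hone : ∀ W : X.Opens, Function.Bijective fun r : Γ(X, W) => r • resM S.X₁ le_top one := fun W => by
    have h : (fun r : Γ(X, W) => r • resM S.X₁ le_top one) = fun r : Γ(X, W) => e.inv.app W r := by
      funext r
      rw [← app_resM, ← Scheme.Modules.Hom.app_smul]
      refine congrArg _ ?_
      show r * X.presheaf.map (homOfLE (le_top : W ≤ ⊤)).op (1 : Γ(X, ⊤)) = r
      rw [map_one, mul_one]
    rw [h]
    exact ConcreteCategory.bijective_of_isIso (e.inv.app W)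
  let t : AE.presheaf.obj (op ⊤) := jE.app ⊤ (S.f.app ⊤ one)
  haveI := RelSpecLib.isIso_gammaMap (A := AE)
  obtain ⟨τ, hτ⟩ := (ConcreteCategory.bijective_of_isIso (AE.gammaMap.app (op ⊤))).2 t
  let τ' : Γ(AE.spec, ⊤) := τ
  have hτW : ∀ (W : X.Opens) (hW : IsAffineOpen W),
      AE.gammaAff W hW (AE.spec.presheaf.map (homOfLE (le_top : AE.π ⁻¹ᵁ W ≤ ⊤)).op τ') =
        AE.presheaf.map (homOfLE (le_top : W ≤ ⊤)).op t := by
    intro W hW
    rw [← AE.gammaMap_app W hW, ← hτ]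
    exact (ConcreteCategory.congr_hom (AE.gammaMap.naturality (homOfLE (le_top : W ≤ ⊤)).op) τ)
  -- the kernel over an affine open with a basis
  have hker : ∀ (W : X.Opens) (hW : IsAffineOpen W) {n : ℕ} (_ : Module.Basis (Fin n) Γ(X, W) Γ(S.X₃, W)),
      RingHom.ker (φ.hom.app (op W)).hom = Ideal.span {AE.presheaf.map (homOfLE (le_top : W ≤ ⊤)).op t} := by
    intro W hW n b
    obtain ⟨l, hl, hdec, -⟩ := split_data hS hW b _ (hone W)
    have htW : AE.presheaf.map (homOfLE (le_top : W ≤ ⊤)).op t = jE.app W (S.f.app W (resM S.X₁ le_top one)) := by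
      rw [app_resM, app_resM]
      rfl
    have hφj : ∀ x, φ.hom.app (op W) (jE.app W x) = jF.app W (S.g.app W x) := fun x =>
      congrArg (fun g : S.X₂ ⟶ AF.toModule => g.app W x) hφ
    refine le_antisymm (fun a ha => ?_) ?_
    · obtain ⟨ψ, hψ0, hψ1⟩ := SymAlgLib.exists_sectionsHom hAF hW (AE.str.app (op W)).hom
        (((jE.app W).hom : Γ(S.X₂, W) →+ AE.presheaf.obj (op W)).comp l.toAddMonoidHom) fun r y => by
          show jE.app W (l (r • y)) = _
          rw [map_smul, Scheme.Modules.Hom.app_smul]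
          rfl
      have key : (Ideal.Quotient.mk (Ideal.span {AE.presheaf.map (homOfLE (le_top : W ≤ ⊤)).op t})).comp
          (ψ.comp (φ.hom.app (op W)).hom) = Ideal.Quotient.mk _ := by
        refine SymAlgLib.sectionsHom_ext hAE hW (fun r => ?_) fun x => ?_
        · show Ideal.Quotient.mk _ (ψ (φ.hom.app (op W) (AE.str.app (op W) r))) = _
          rw [show φ.hom.app (op W) (AE.str.app (op W) r) = AF.str.app (op W) r from
            ConcreteCategory.congr_hom (NatTrans.congr_app φ.comm (op W)) r, hψ0]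
        · show Ideal.Quotient.mk _ (ψ (φ.hom.app (op W) (jE.app W x))) = _
          rw [hφj, hψ1]
          obtain ⟨r, hr⟩ := hdec x
          refine Ideal.Quotient.eq.2 (Ideal.mem_span_singleton'.2 ⟨-(AE.str.app (op W) r), ?_⟩)
          rw [htW]
          conv_rhs => rw [show (jE.app W x : AE.presheaf.obj (op W)) = (show AE.presheaf.obj (op W) from
            jE.app W (l (S.g.app W x))) + AE.str.app (op W) r * (show AE.presheaf.obj (op W) from
              jE.app W (S.f.app W (resM S.X₁ le_top one))) by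
              conv_lhs => rw [hr]
              rw [map_add, Scheme.Modules.Hom.app_smul]
              rfl]
          show _ = (show AE.presheaf.obj (op W) from jE.app W (l (S.g.app W x))) - _
          ring
      have := DFunLike.congr_fun key a
      rw [RingHom.comp_apply, RingHom.comp_apply, show (φ.hom.app (op W)).hom a = 0 from ha, map_zero, map_zero] at this
      exact Ideal.Quotient.eq_zero_iff_mem.1 this.symm
    · rw [Ideal.span_le, Set.singleton_subset_iff, SetLike.mem_coe, RingHom.mem_ker, htW]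
      refine (hφj _).trans ?_
      rw [sections_zero W (resM S.X₁ le_top one), map_zero]
      rfl
  have hchart : ∀ z : ↥AE.spec, ∃ (W : X.Opens) (hW : IsAffineOpen W) (n : ℕ),
      AE.π z ∈ W ∧ Nonempty (Module.Basis (Fin n) Γ(X, W) Γ(S.X₃, W)) := fun z => by
    obtain ⟨n, hn⟩ := exists_mem_rankLocus hF (AE.π z)
    obtain ⟨W, hW, hz, hb⟩ := mem_rankLocus.1 hn
    exact ⟨W, hW, n, hz, hb⟩
  -- the zero locus of the function
  have hunit : ∀ v : ↥AE.spec, v ∉ Set.range i → IsUnit (AE.spec.presheaf.germ ⊤ v trivial τ') := by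
    intro v hv
    obtain ⟨W, hW, n, hz, ⟨b⟩⟩ := hchart v
    obtain ⟨q, rfl⟩ := RelSpecLib.exists_chart_eq AE hW v hz
    rw [← AE.spec.mem_basicOpen_top, ← Scheme.Hom.mem_preimage, Scheme.Hom.preimage_basicOpen_top,
      basicOpen_eq_of_affine']
    intro hq
    have ht : (Scheme.ΓSpecIso (AE.presheaf.obj (op W))).hom ((AE.ι W hW).appTop τ') =
        AE.presheaf.map (homOfLE (le_top : W ≤ ⊤)).op t := by
      rw [← hτW W hW, RelSpec.QCAlg.gammaAff, Scheme.Hom.appTop, Scheme.Hom.app_eq_appLE, ← CommRingCat.comp_apply,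
        ← CommRingCat.comp_apply, ← Category.assoc, Scheme.Hom.map_appLE]
      rfl
    rw [ht] at hq
    have hle : RingHom.ker (φ.hom.app (op W)).hom ≤ q.asIdeal := by
      rw [hker W hW b, Ideal.span_le, Set.singleton_subset_iff]
      exact hq
    obtain ⟨q', hq'⟩ : q ∈ Set.range (PrimeSpectrum.comap (φ.hom.app (op W)).hom) := by
      rw [range_comap_of_surjective _ _ (hsurj W hW)]
      exact hle
    refine hv ⟨AF.ι W hW q', ?_⟩
    refine (congrArg (fun g : Spec (AF.presheaf.obj (op W)) ⟶ AE.spec => g q') (RelSpec.QCAlg.ι_specMap W hW φ)).trans ?_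
    exact congrArg (AE.ι W hW) hq'
  have hkerst : ∀ y : ↥AF.spec, RingHom.ker (i.stalkMap y).hom = Ideal.span {AE.spec.presheaf.germ ⊤ (i y) trivial τ'} := by
    intro y
    obtain ⟨W, hW, n, hz, ⟨b⟩⟩ := hchart (i y)
    have hV : IsAffineOpen (AE.π ⁻¹ᵁ W) := by rw [AE.π_preimage W hW]; exact isAffineOpen_opensRange _
    rw [CAlgH.CIImmersion.ker_stalkMap_eq i y hV hz]
    have hnat : i.app (AE.π ⁻¹ᵁ W) ≫ AF.spec.presheaf.map (eqToHom (by rw [← Scheme.Hom.comp_preimage, hπi])).op ≫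
        AF.gammaAff W hW = AE.gammaAff W hW ≫ φ.hom.app (op W) := by
      simp only [RelSpec.QCAlg.gammaAff, Category.assoc]
      rw [← Scheme.ΓSpecIso_naturality, ← Category.assoc, ← Category.assoc, ← Category.assoc]
      congr 1
      simp only [Scheme.Hom.app_eq_appLE, Scheme.Hom.appLE_map, Scheme.Hom.map_appLE, Scheme.Hom.appLE_comp_appLE]
      simp only [i, RelSpec.QCAlg.ι_specMap, Scheme.Hom.appTop, Scheme.Hom.app_eq_appLE,
        Scheme.Hom.appLE_comp_appLE]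
      exact (Scheme.Hom.appLE_comp_appLE (Spec.map (φ.hom.app (op W))) (AE.ι W hW) _ _ _ _ _).symm
    have hbijF : Function.Bijective (AF.gammaAff W hW) := by
      haveI := RelSpecLib.isIso_gammaMap (A := AF)
      rw [← AF.gammaMap_app W hW]
      exact ConcreteCategory.bijective_of_isIso _
    have hbijE : Function.Bijective (AE.gammaAff W hW) := by
      rw [← AE.gammaMap_app W hW]
      exact ConcreteCategory.bijective_of_isIso _
    have hk : RingHom.ker (i.app (AE.π ⁻¹ᵁ W)).hom =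
        Ideal.span {AE.spec.presheaf.map (homOfLE (le_top : AE.π ⁻¹ᵁ W ≤ ⊤)).op τ'} := by
      ext a
      have h1 : φ.hom.app (op W) (AE.gammaAff W hW a) = 0 ↔ i.app (AE.π ⁻¹ᵁ W) a = 0 := by
        rw [← CommRingCat.comp_apply, ← hnat, CommRingCat.comp_apply, CommRingCat.comp_apply,
          map_eq_zero_iff _ hbijF.1]
        exact map_eq_zero_iff _ (ConcreteCategory.bijective_of_isIso _).1
      rw [RingHom.mem_ker, ← h1, ← RingHom.mem_ker, hker W hW b, ← hτW W hW, Ideal.mem_span_singleton,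
        Ideal.mem_span_singleton]
      exact map_dvd_iff (RingEquiv.ofBijective (AE.gammaAff W hW).hom hbijE)
    rw [hk, Ideal.map_span, Set.image_singleton]
    congr 2
    exact TopCat.Presheaf.germ_res_apply AE.spec.presheaf (homOfLE le_top) (i y) hz τ'
  -- the pieces
  let U : ULift.{u} ℕ → X.Opens := fun n => rankLocus S.X₃ n.down
  have hAEft : LocallyOfFiniteType AE.π := by
    refine IsZariskiLocalAtTarget.of_iSup_eq_top U (eq_top_iff.2 fun x _ => ?_) fun n => ?_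
    · obtain ⟨n, hn⟩ := exists_mem_rankLocus hF x
      exact TopologicalSpace.Opens.mem_iSup.2 ⟨⟨n⟩, hn⟩
    · refine lft_affineBundle (r := n.down + 1) (isAffineBundle_over hAE (fun x hx => ?_) (AE.π ⁻¹ᵁ U n).ι
        (Scheme.Opens.range_ι _) _ (morphismRestrict_ι _ _))
      obtain ⟨W, hW, hxW, ⟨b⟩⟩ := mem_rankLocus.1 hx
      exact ⟨W, hW, hxW, fun y hy => mem_rankLocus.2 ⟨W, hW, hy, ⟨b⟩⟩, (split_data hS hW b _ (hone W)).choose_spec.2.2⟩
  refine ratEquivZero_glue hEs.2.2 (fun n => AE.π ⁻¹ᵁ U n)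
    (fun z => let ⟨n, hn⟩ := exists_mem_rankLocus hF (AE.π z); ⟨⟨n⟩, hn⟩)
    (fun a b z ha hb => ULift.ext _ _ (rankLocus_eq (F := S.X₃) (x := AE.π z) ha hb)) _ fun n => ?_
  set V : AE.spec.Opens := AE.π ⁻¹ᵁ U n
  let io := i ∣_ V
  let fE : V.toScheme ⟶ (U n).toScheme := AE.π ∣_ U n
  have hbasis : ∀ x ∈ U n, ∃ W : X.Opens, IsAffineOpen W ∧ x ∈ W ∧ W ≤ U n ∧
      Nonempty (Module.Basis (Fin n.down) Γ(X, W) Γ(S.X₃, W)) := fun x hx => by
    obtain ⟨W, hW, hxW, hb⟩ := mem_rankLocus.1 hx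
    exact ⟨W, hW, hxW, fun y hy => mem_rankLocus.2 ⟨W, hW, hy, hb⟩, hb⟩
  have hbE : IsAffineBundle fE (n.down + 1) := by
    refine isAffineBundle_over hAE (fun x hx => ?_) V.ι (Scheme.Opens.range_ι _) fE (morphismRestrict_ι _ _)
    obtain ⟨W, hW, hxW, hWU, ⟨b⟩⟩ := hbasis x hx
    exact ⟨W, hW, hxW, hWU, (split_data hS hW b _ (hone W)).choose_spec.2.2⟩
  have hbF : IsAffineBundle (io ≫ fE) n.down := by
    refine isAffineBundle_over hAF hbasis (i ⁻¹ᵁ V).ι ?_ (io ≫ fE) ?_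
    · rw [Scheme.Opens.range_ι, ← hπi]
      rfl
    · rw [Category.assoc, morphismRestrict_ι, morphismRestrict_ι_assoc, hπi]
  haveI := hAEft
  haveI : LocallyOfFiniteType AF.π := by rw [← hπi]; infer_instance
  haveI : LocallyOfFiniteType fE := lft_affineBundle hbE
  obtain ⟨δU, hUs, hUc⟩ := exists_setup (U n).ι hX
  obtain ⟨δV, hVs, hVc⟩ := exists_setup V.ι hEs
  obtain ⟨δT, hTs, hTc⟩ := exists_setup (i ⁻¹ᵁ V).ι hFs
  haveI := hUs.1
  haveI := hVs.1
  haveI := hTs.1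
  have hdi : Cyc.DeltaCompat i δF δE :=
    deltaCompat_cancel (f := 𝟙 X) (f' := i) (π := AE.π) (π' := AF.π) (δY := δ) (by rw [hπi, Category.comp_id]) hδF
      (deltaCompat_id δ) hδE
  have hδi := delta_closedImmersion i hdi
  have hδV := delta_closedImmersion V.ι hVc
  have hδT := delta_closedImmersion (i ⁻¹ᵁ V).ι hTc
  have hio : ∀ y, V.ι (io y) = i ((i ⁻¹ᵁ V).ι y) := fun y =>
    congrArg (fun g : (i ⁻¹ᵁ V).toScheme ⟶ AE.spec => g y) (morphismRestrict_ι i V)
  have hcE : Cyc.DeltaCompat fE δV δU :=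
    deltaCompat_cancel (f := 𝟙 X) (f' := fE) (π := (U n).ι) (π' := V.ι ≫ AE.π) (δY := δ)
      (by rw [Category.comp_id, morphismRestrict_ι]) (CycLib28.P1Inter.deltaCompat_comp V.ι AE.π hVc hδE)
      (deltaCompat_id δ) hUc
  have hcT : Cyc.DeltaCompat io δT δV :=
    deltaCompat_cancel (f := 𝟙 AE.spec) (f' := io) (π := V.ι) (π' := (i ⁻¹ᵁ V).ι ≫ i) (δY := δE)
      (by rw [Category.comp_id, morphismRestrict_ι]) (CycLib28.P1Inter.deltaCompat_comp (i ⁻¹ᵁ V).ι i hTc hdi)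
      (deltaCompat_id δE) hVc
  have hgerm : ∀ v, V.ι.stalkMap v (AE.spec.presheaf.germ ⊤ (V.ι v) trivial τ') =
      V.toScheme.presheaf.germ ⊤ v trivial (V.ι.appTop τ') := fun v => Scheme.Hom.germ_stalkMap_apply V.ι ⊤ v trivial τ'
  let α₁ := Strat24.comapCyc (i ⁻¹ᵁ V).ι (i ⁻¹ᵁ V).ι.isOpenEmbedding.injective α
  have hα₁ : α₁ ∈ Cyc.Zk (i ⁻¹ᵁ V).toScheme δT k := fun y hy => by
    show α ((i ⁻¹ᵁ V).ι y) = 0
    exact hα _ (by rw [← hδT]; exact hy)
  have h0 := ratEquivZero_hyper hbE hbF hUs.2.2 hVs.2.2 hcE hTs.2.2 hcT (V.ι.appTop τ')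
    (fun v hv => by
      rw [← hgerm]
      refine (hunit (V.ι v) fun ⟨y, hy⟩ => hv ?_).map (V.ι.stalkMap v).hom
      obtain ⟨y', rfl⟩ : ∃ y', (i ⁻¹ᵁ V).ι y' = y := ⟨⟨y, show i y ∈ V by rw [hy]; exact v.2⟩, rfl⟩
      exact ⟨y', V.ι.isOpenEmbedding.injective ((hio y').trans hy)⟩)
    (fun y => by
      have hb1 := ConcreteCategory.bijective_of_isIso (V.ι.stalkMap (io y))
      have hb2 := ConcreteCategory.bijective_of_isIso ((i ⁻¹ᵁ V).ι.stalkMap y)
      have e1 : RingHom.ker ((io ≫ V.ι).stalkMap y).hom =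
          Ideal.span {AE.spec.presheaf.germ ⊤ ((io ≫ V.ι) y) trivial τ'} := by
        have key : ∀ (g : (i ⁻¹ᵁ V).toScheme ⟶ AE.spec), g = (i ⁻¹ᵁ V).ι ≫ i →
            RingHom.ker (g.stalkMap y).hom = Ideal.span {AE.spec.presheaf.germ ⊤ (g y) trivial τ'} := by
          rintro g rfl
          rw [Scheme.Hom.stalkMap_comp]
          refine Eq.trans ?_ (hkerst ((i ⁻¹ᵁ V).ι y))
          ext a
          exact map_eq_zero_iff _ hb2.1
        exact key _ (morphismRestrict_ι i V)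
      rw [Scheme.Hom.stalkMap_comp] at e1
      change RingHom.ker ((V.ι.stalkMap (io y) ≫ io.stalkMap y).hom) = _ at e1
      rw [CommRingCat.hom_comp, ← RingHom.comap_ker] at e1
      rw [← Ideal.map_comap_of_surjective _ hb1.2 (RingHom.ker (io.stalkMap y).hom), e1]
      refine (Ideal.map_span _ _).trans (congrArg Ideal.span (Set.image_singleton.trans ?_))
      exact congrArg _ (hgerm (io y))) α₁ hα₁
  refine ⟨AlgebraicCycle.map io δT δV α₁, by rwa [show (fun v => δE (V.ι v)) = δV from (funext hδV).symm], fun v => ?_⟩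
  have hδio := delta_closedImmersion io hcT
  rw [show δT = fun y => δV (io y) from funext hδio]
  by_cases hv : v ∈ Set.range io
  · obtain ⟨y, rfl⟩ := hv
    rw [map_closedImmersion_apply, hio, show δF = fun y => δE (i y) from funext hδi, map_closedImmersion_apply]
    rfl
  · rw [map_closedImmersion_eq_zero io _ _ _ v hv, show δF = fun y => δE (i y) from funext hδi,
      map_closedImmersion_eq_zero i _ _ _ (V.ι v)]
    rintro ⟨y, hy⟩
    obtain ⟨y', rfl⟩ : ∃ y', (i ⁻¹ᵁ V).ι y' = y := ⟨⟨y, show i y ∈ V by rw [hy]; exact v.2⟩, rfl⟩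
    exact hv ⟨y', V.ι.isOpenEmbedding.injective ((hio y').trans hy)⟩

end Main

end Groth.Agent.Thom28
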