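import Groth.Agent.VarietyLib.DetWedge
import Groth.Agent.Thom28.Step
import Mathlib.RingTheory.Regular.Flat

/-!
# The coordinate ideal of a section, and an exchange lemma for regular sequences
-/

set_option autoImplicit false
set_option linter.unusedSectionVars false
set_option linter.style.haveILetI false
set_option backward.isDefEq.respectTransparency.types false
set_option maxHeartbeats 1000000

universe u

open AlgebraicGeometry CategoryTheory CategoryTheory.Limits TopologicalSpace IsLocalRing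
open Groth.Agent.Coherent Groth.Agent.PicLib Groth.Agent.CycLim28
open Groth.Agent.CycLib28 Groth.Agent.CycLib28.PB

namespace Groth.Agent.Thom28

section Algebra

variable {R : Type*} [CommRing R] {M N : Type*} [AddCommGroup M] [Module R M] [AddCommGroup N] [Module R N]

/-- The values of the linear forms at `v`. -/
def coordIdeal (R : Type*) [CommRing R] {M : Type*} [AddCommGroup M] [Module R M] (v : M) : Ideal R :=
  LinearMap.range (Module.Dual.eval R M v)

theorem coordIdeal_eq_span {ι : Type*} [Fintype ι] (b : Module.Basis ι R M) (v : M) :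
    coordIdeal R v = Ideal.span (Set.range fun i => b.repr v i) := by
  refine le_antisymm ?_ (Ideal.span_le.2 ?_)
  · rintro _ ⟨φ, rfl⟩
    show φ v ∈ Ideal.span (Set.range fun i => b.repr v i)
    have h : φ v = ∑ i, b.repr v i * φ (b i) := by
      conv_lhs => rw [← b.sum_repr v]
      rw [map_sum]
      exact Finset.sum_congr rfl fun i _ => by rw [map_smul, smul_eq_mul]
    rw [h]
    exact Ideal.sum_mem _ fun i _ => Ideal.mul_mem_right _ _ (Ideal.subset_span ⟨i, rfl⟩)
  · rintro _ ⟨i, rfl⟩
    exact ⟨b.coord i, rfl⟩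

theorem coordIdeal_le_iff {ι : Type*} [Fintype ι] (b : Module.Basis ι R M) (v : M) (I : Ideal R) :
    coordIdeal R v ≤ I ↔ v ∈ I • (⊤ : Submodule R M) := by
  refine ⟨fun h => ?_, fun h => ?_⟩
  · rw [← b.sum_repr v]
    refine Submodule.sum_mem _ fun i _ => Submodule.smul_mem_smul (h ?_) Submodule.mem_top
    exact ⟨b.coord i, rfl⟩
  · rintro _ ⟨φ, rfl⟩
    refine Submodule.smul_induction_on h (fun r hr n _ => ?_) fun x y hx hy => ?_
    · show φ (r • n) ∈ I
      rw [map_smul, smul_eq_mul]
      exact Ideal.mul_mem_right _ _ hr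
    · show φ (x + y) ∈ I
      rw [map_add]
      exact I.add_mem hx hy

theorem coordIdeal_map (f : M →ₗ[R] N) (v : M) : coordIdeal R (f v) ≤ coordIdeal R v := by
  rintro _ ⟨φ, rfl⟩
  exact ⟨φ.comp f, rfl⟩

end Algebra

open RingTheory.Sequence in
/-- Exchanging a member of a regular sequence. -/
theorem exists_regular_quotient {R S : Type u} [CommRing R] [CommRing S] [IsLocalRing R] [IsNoetherianRing R] {m : ℕ}
    (f : Fin (m + 1) → R) (hf : IsRegular R (List.ofFn f)) (a : Fin (m + 1) → R) (l : Fin (m + 1))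
    (ha : IsUnit (a l)) (π : R →+* S) (hπ : Function.Surjective π)
    (hker : RingHom.ker π = Ideal.span {∑ i, a i * f i}) :
    ∃ f' : Fin m → S, IsRegular S (List.ofFn f') ∧
      Ideal.span (Set.range f') = (Ideal.span (Set.range f)).map π := by
  classical
  set g := ∑ i, a i * f i
  let h : Fin m → R := fun j => f (l.succAbove j)
  have hmem : ∀ i, f i ∈ maximalIdeal R := fun i => by
    refine IsLocalRing.le_maximalIdeal (J := Ideal.ofList (List.ofFn f)) (fun hT => hf.top_ne_smul ?_)
      (Ideal.subset_span (show f i ∈ {r | r ∈ List.ofFn f} from List.mem_ofFn.2 ⟨i, rfl⟩))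
    rw [show Ideal.ofList (List.ofFn f) = (⊤ : Ideal R) from hT, Submodule.top_smul]
  -- move the exchanged member to the end
  have hperm : List.Perm (List.ofFn f) (List.ofFn h ++ [f l]) := by
    have h1 : List.ofFn (fun i => f ((Fin.cycleRange l).symm i)) = f l :: List.ofFn h := by
      rw [List.ofFn_succ]
      simp [h, Fin.cycleRange_symm_zero, Fin.cycleRange_symm_succ]
    have h2 : List.Perm (List.ofFn (fun i => f ((Fin.cycleRange l).symm i))) (List.ofFn f) :=
      Equiv.Perm.ofFn_comp_perm (Fin.cycleRange l).symm f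
    rw [h1] at h2
    exact h2.symm.trans (List.perm_append_singleton _ _).symm
  have hw : IsWeaklyRegular R (List.ofFn h ++ [f l]) :=
    IsLocalRing.isWeaklyRegular_of_perm_of_subset_maximalIdeal hf.toIsWeaklyRegular hperm fun r hr => by
      obtain ⟨i, rfl⟩ := List.mem_ofFn.1 hr
      exact hmem i
  rw [isWeaklyRegular_append_iff, isWeaklyRegular_singleton_iff] at hw
  -- replace it by the combination
  have hdiff : g - a l * f l ∈ Ideal.span (Set.range h) := by
    rw [show g - a l * f l = ∑ j, a (l.succAbove j) * h j from by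
      show (∑ i, a i * f i) - _ = _
      rw [Fin.sum_univ_succAbove _ l, add_sub_cancel_left]]
    exact Ideal.sum_mem _ fun j _ => Ideal.mul_mem_left _ _ (Ideal.subset_span ⟨j, rfl⟩)
  have hofL : Ideal.ofList (List.ofFn h) = Ideal.span (Set.range h) := by
    refine congrArg Ideal.span (Set.ext fun x => ?_)
    show x ∈ List.ofFn h ↔ _
    rw [List.mem_ofFn]
    rfl
  have hg : IsSMulRegular (R ⧸ Ideal.ofList (List.ofFn h) • (⊤ : Ideal R)) g := by
    intro x y hxy
    refine hw.2 ?_
    have key : ∀ z : R ⧸ Ideal.ofList (List.ofFn h) • (⊤ : Ideal R), g • z = a l • f l • z := fun z => by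
      induction z using Submodule.Quotient.induction_on with
      | H z =>
        rw [← Submodule.Quotient.mk_smul, ← Submodule.Quotient.mk_smul, ← Submodule.Quotient.mk_smul,
          Submodule.Quotient.eq, smul_eq_mul, smul_eq_mul, smul_eq_mul]
        rw [hofL, smul_eq_mul, show g * z - a l * (f l * z) = z * (g - a l * f l) by ring, Ideal.mul_top]
        exact Ideal.mul_mem_left _ _ hdiff
    have := hxy
    simp only [key] at this
    exact (ha.smul_left_cancel).1 this
  have hg1 : IsWeaklyRegular R (List.ofFn h ++ [g]) := by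
    rw [isWeaklyRegular_append_iff, isWeaklyRegular_singleton_iff]
    exact ⟨hw.1, hg⟩
  have hgm : g ∈ maximalIdeal R := Ideal.sum_mem _ fun i _ => Ideal.mul_mem_left _ _ (hmem i)
  have hg2 : IsWeaklyRegular R (g :: List.ofFn h) :=
    IsLocalRing.isWeaklyRegular_of_perm_of_subset_maximalIdeal hg1 (List.perm_append_singleton _ _) fun r hr => by
      rcases List.mem_append.1 hr with hr | hr
      · obtain ⟨j, rfl⟩ := List.mem_ofFn.1 hr
        exact hmem _
      · rw [List.mem_singleton.1 hr]
        exact hgm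
  rw [isWeaklyRegular_cons_iff] at hg2
  algebraize [π]
  refine ⟨fun j => π (h j), ?_, ?_⟩
  · let e : QuotSMulTop g R ≃ₗ[R] S :=
      (Submodule.quotEquivOfEq _ (LinearMap.ker (Algebra.linearMap R S)) (by
        refine le_antisymm (fun x hx => ?_) fun x hx => ?_
        · obtain ⟨y, -, rfl⟩ := (Submodule.mem_smul_pointwise_iff_exists x g ⊤).1 hx
          show π (g • y) = 0
          have : π g = 0 := by rw [← RingHom.mem_ker, hker]; exact Ideal.mem_span_singleton_self g
          rw [smul_eq_mul, map_mul, this, zero_mul]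
        · have : x ∈ RingHom.ker π := hx
          rw [hker] at this
          obtain ⟨y, rfl⟩ := Ideal.mem_span_singleton'.1 this
          exact (Submodule.mem_smul_pointwise_iff_exists _ g ⊤).2 ⟨y, trivial, by rw [smul_eq_mul, mul_comm]⟩)).trans
        ((Algebra.linearMap R S).quotKerEquivOfSurjective hπ)
    have h3 : IsWeaklyRegular S ((List.ofFn h).map (algebraMap R S)) :=
      (isWeaklyRegular_map_algebraMap_iff S S _).2 ((e.isWeaklyRegular_congr _).1 hg2.2)
    rw [List.map_ofFn] at h3
    haveI : Nontrivial S := by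
      refine nontrivial_of_ne 1 0 fun h10 => ?_
      have : (1 : R) ∈ RingHom.ker π := by rw [RingHom.mem_ker, map_one, h10]
      rw [hker] at this
      exact (IsLocalRing.maximalIdeal.isMaximal R).ne_top ((Ideal.eq_top_iff_one _).2
        ((Ideal.span_singleton_le_iff_mem _).2 hgm this))
    haveI := IsLocalRing.of_surjective' π hπ
    refine ⟨h3, fun hT => (IsLocalRing.maximalIdeal.isMaximal S).ne_top (top_unique ?_)⟩
    have hle : Ideal.ofList (List.ofFn fun j => π (h j)) ≤ maximalIdeal S := Ideal.span_le.2 fun x hx => by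
      obtain ⟨j, rfl⟩ := List.mem_ofFn.1 hx
      exact (IsLocalRing.mem_maximalIdeal _).2 fun hu => by
        haveI := IsLocalHom.of_surjective π hπ
        exact (IsLocalRing.mem_maximalIdeal _).1 (hmem _) (isUnit_of_map_unit π _ hu)
    calc (⊤ : Ideal S) = _ := hT
      _ ≤ Ideal.ofList _ := Submodule.smul_le.2 fun r hr n _ => Ideal.mul_mem_right _ _ hr
      _ ≤ _ := hle
  · rw [Ideal.map_span]
    refine le_antisymm (Ideal.span_mono ?_) (Ideal.span_le.2 ?_)
    · rintro _ ⟨j, rfl⟩
      exact ⟨_, ⟨_, rfl⟩, rfl⟩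
    · rintro _ ⟨_, ⟨i, rfl⟩, rfl⟩
      rcases Fin.eq_self_or_eq_succAbove l i with rfl | ⟨j, rfl⟩
      · have h0 : π g = 0 := by rw [← RingHom.mem_ker, hker]; exact Ideal.mem_span_singleton_self g
        have hu : IsUnit (π (a i)) := ha.map π
        refine (Ideal.unit_mul_mem_iff_mem _ hu).1 ?_
        rw [show π (a i) * π (f i) = π g - ∑ j, π (a (i.succAbove j)) * π (h j) from by
          show _ = π (∑ k, a k * f k) - _
          rw [map_sum, Fin.sum_univ_succAbove _ i]
          simp only [map_mul, h]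
          rw [add_sub_cancel_right], h0, zero_sub]
        exact neg_mem (Ideal.sum_mem _ fun j _ => Ideal.mul_mem_left _ _ (Ideal.subset_span ⟨j, rfl⟩))
      · exact Ideal.subset_span ⟨j, rfl⟩

variable {X Y : Scheme.{u}}

/-- The coordinate ideal of a global section at a point. -/
noncomputable def sI {E : X.Modules} (s : Γ(E, ⊤)) (x : X) : Ideal (X.presheaf.stalk x) :=
  coordIdeal (X.presheaf.stalk x) (E.presheaf.germ ⊤ x trivial s : E.presheaf.stalk x)

theorem sI_eq_span {E : X.Modules} [Coh.IsQCoh E] {W : X.Opens} (hW : IsAffineOpen W) {n : ℕ}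
    (b : Module.Basis (Fin n) Γ(X, W) Γ(E, W)) (s : Γ(E, ⊤)) {x : X} (hx : x ∈ W) (c : Fin n → Γ(X, W))
    (hc : resM E le_top s = ∑ i, c i • b i) :
    sI s x = Ideal.span (Set.range fun i => X.presheaf.germ W x hx (c i)) := by
  obtain ⟨b', hb'⟩ := VarietyLib.exists_basis_stalk_of_basis E hW b hx
  rw [sI, coordIdeal_eq_span b']
  have h1 : (E.presheaf.germ ⊤ x trivial s : E.presheaf.stalk x) = ∑ i, X.presheaf.germ W x hx (c i) • b' i := by
    rw [← TopCat.Presheaf.germ_res_apply E.presheaf (homOfLE (le_top : W ≤ ⊤)) x hx s,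
      show E.presheaf.map (homOfLE (le_top : W ≤ ⊤)).op s = ∑ i, c i • b i from hc, map_sum]
    exact Finset.sum_congr rfl fun i _ => by rw [hb']; exact QCohLoc.germ_smul' (M := E) hx (c i) (b i)
  rw [h1, b'.repr_sum_self]

theorem sI_le_iff {r : ℕ} {E : X.Modules} (hE : FlatMod.IsFinLocFreeOfRank r E) (s : Γ(E, ⊤)) (x : X)
    (I : Ideal (X.presheaf.stalk x)) :
    sI s x ≤ I ↔ (E.presheaf.germ ⊤ x trivial s : E.presheaf.stalk x) ∈ I • (⊤ : Submodule (X.presheaf.stalk x) (E.presheaf.stalk x)) := by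
  haveI := isQCoh_of_rank hE
  obtain ⟨V, hV, ⟨e⟩⟩ := hE x
  obtain ⟨W, hW, hxW, hWV⟩ := TopologicalSpace.Opens.isBasis_iff_nbhd.1 X.isBasis_affineOpens hV
  obtain ⟨b⟩ := Props12.exists_basis_sections e hWV
  obtain ⟨b', -⟩ := VarietyLib.exists_basis_stalk_of_basis E hW b hxW
  exact coordIdeal_le_iff b' _ _

theorem sI_eq_span_basis {r : ℕ} {E : X.Modules} (s : Γ(E, ⊤)) {x : X}
    (b : Module.Basis (Fin r) (X.presheaf.stalk x) (E.presheaf.stalk x)) :
    sI s x = Ideal.span (Set.range fun l => b.repr (E.presheaf.germ ⊤ x trivial s) l) :=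
  coordIdeal_eq_span b _

theorem pullSec_sum (g : Y ⟶ X) {E : X.Modules} {U : X.Opens} {ι : Type*} (s : Finset ι) (t : ι → Γ(E, U)) :
    pullSec g (∑ i ∈ s, t i) = ∑ i ∈ s, pullSec g (t i) :=
  map_sum (((Scheme.Modules.pullbackPushforwardAdjunction g).unit.app E).app U).hom t s

theorem sI_pullback (g : Y ⟶ X) {r : ℕ} {E : X.Modules} (hE : FlatMod.IsFinLocFreeOfRank r E) (s : Γ(E, ⊤)) (y : Y) :
    sI (pullSec g s : Γ((Scheme.Modules.pullback g).obj E, ⊤)) y = (sI s (g y)).map (g.stalkMap y).hom := by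
  haveI := isQCoh_of_rank hE
  haveI := isQCoh_of_rank (Groth.Agent.VarietyLib.isFinLocFreeOfRank_pullback g hE)
  obtain ⟨U, k, e, hyU, he⟩ := exists_isBasisOn (isFinLocFree_of_rank hE) (g y)
  obtain ⟨W, hW, hyW, hWU⟩ := TopologicalSpace.Opens.isBasis_iff_nbhd.1 X.isBasis_affineOpens hyU
  obtain ⟨b, hb⟩ := exists_basis_of_isBasisOn he hWU
  obtain ⟨W', hW', hyW', hW'W⟩ := TopologicalSpace.Opens.isBasis_iff_nbhd.1 Y.isBasis_affineOpens
    (show y ∈ g ⁻¹ᵁ W from hyW)
  obtain ⟨b'', hb''⟩ := exists_basis_of_isBasisOn (he.pull g) (hW'W.trans (g.preimage_mono hWU))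
  let c := fun i => b.repr (resM E le_top s) i
  have hc : resM E le_top s = ∑ i, c i • b i := (b.sum_repr _).symm
  have hc' : resM ((Scheme.Modules.pullback g).obj E) (le_top : W' ≤ ⊤) (pullSec g s) =
      ∑ i, g.appLE W W' hW'W (c i) • b'' i := by
    have h1 := congrArg (fun t => resM ((Scheme.Modules.pullback g).obj E) hW'W (pullSec g t)) hc
    simp only [← resM_pullSec, pullSec_sum, pullSec_smul, map_sum, resM_smul, resM_resM, hb] at h1
    refine h1.trans (Finset.sum_congr rfl fun i _ => ?_)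
    rw [hb'']
    rfl
  rw [sI_eq_span hW b s hyW c hc, sI_eq_span hW' b'' (pullSec g s) hyW' _ hc', Ideal.map_span, ← Set.range_comp]
  refine congrArg Ideal.span (congrArg Set.range (funext fun i => ?_))
  show Y.presheaf.germ W' y hyW' (g.appLE W W' hW'W (c i)) = g.stalkMap y (X.presheaf.germ W (g y) hyW (c i))
  rw [Scheme.Hom.germ_stalkMap_apply, Scheme.Hom.appLE, CommRingCat.comp_apply, TopCat.Presheaf.germ_res_apply]

theorem sI_sub {K G F : X.Modules} {a : K ⟶ G} {b : G ⟶ F} {hab : a ≫ b = 0}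
    (hex : (ShortComplex.mk a b hab).ShortExact) {m n : ℕ} (hK : FlatMod.IsFinLocFreeOfRank m K)
    (hF : FlatMod.IsFinLocFreeOfRank (n + 1) F) (t : Γ(K, ⊤)) (x : X) : sI (a.app ⊤ t) x = sI t x := by
  classical
  haveI : Coh.IsQCoh (ShortComplex.mk a b hab).X₁ := isQCoh_of_rank hK
  haveI : Coh.IsQCoh (ShortComplex.mk a b hab).X₃ := isQCoh_of_rank hF
  haveI : Coh.IsQCoh G := isQCoh_X₂ hex
  haveI := isQCoh_of_rank hK
  obtain ⟨W, hW, bK, bG, hxW, hb⟩ := exists_chart hex hK hF x
  let c := fun i => bK.repr (resM K le_top t) i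
  have hc : resM K le_top t = ∑ i, c i • bK i := (bK.sum_repr _).symm
  let c' : Fin (m + (n + 1)) → Γ(X, W) := Fin.addCases c fun _ => 0
  have hc' : resM G le_top (a.app ⊤ t) = ∑ i : Fin (m + n + 1), c' i • bG i := by
    rw [← app_resM, hc, map_sum]
    refine Eq.trans ?_ (Fin.sum_univ_add (a := m) (b := n + 1) (fun i => c' i • bG i)).symm
    simp only [c', Fin.addCases_left, Fin.addCases_right, zero_smul, Finset.sum_const_zero, add_zero]
    exact Finset.sum_congr rfl fun i _ => by rw [hb i]; exact Scheme.Modules.Hom.app_smul _ _ _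
  rw [sI_eq_span hW bG _ hxW c' hc', sI_eq_span hW bK t hxW c hc]
  refine le_antisymm (Ideal.span_le.2 ?_) (Ideal.span_mono ?_)
  · rintro _ ⟨i, rfl⟩
    refine Fin.addCases (motive := fun i => X.presheaf.germ W x hxW (c' i) ∈ _) (fun j => ?_) (fun j => ?_) i
    · simp only [c', Fin.addCases_left]
      exact Ideal.subset_span ⟨j, rfl⟩
    · simp only [c', Fin.addCases_right, map_zero]
      exact Ideal.zero_mem _
  · rintro _ ⟨i, rfl⟩
    exact ⟨Fin.castAdd (n + 1) i, by simp [c']⟩

end Groth.Agent.Thom28
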