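import Groth.Agent.CycLib28.PB.Span.AffineFibres
import Groth.Agent.CycLib28.PB.FlagLocal
import Groth.Agent.CycLib28.PB.Ops.Defs
import Groth.Agent.CycLib28.PushAny
import Groth.Agent.CycLib28.P1Cycle
import Groth.Agent.CycLib28.ClosedZero
import Groth.Agent.CycLib28.OrdRestrict
import Groth.Agent.Strat24.Span
import Groth.Agent.CycLib28.P1Inter

/-!
# A hyperplane sub bundle of an affine bundle
-/

set_option autoImplicit false
set_option linter.unusedSectionVars false
set_option linter.style.haveILetI false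
set_option backward.isDefEq.respectTransparency.types false
set_option maxHeartbeats 1000000

universe u

open AlgebraicGeometry CategoryTheory CategoryTheory.Limits TopologicalSpace IsLocalRing Groth.Agent.CycLim28
open Groth.Agent.CycLib28 Groth.Agent.CycLib28.PB Groth.Agent.CycLib28.PB.Span

namespace Groth.Agent.Thom28

theorem hasRelDim_affineBundle {X Y : Scheme.{u}} {f : X ⟶ Y} {r : ℕ} (hf : IsAffineBundle f r) : Cyc.HasRelDim f r := by
  intro y T hT
  obtain ⟨φ⟩ := exists_fibre_iso hf y
  haveI : IsNoetherianRing (MvPolynomial (ULift.{u} (Fin r)) (Y.residueField y)) := MvPolynomial.isNoetherianRing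
  haveI : IrreducibleSpace ↥(f.fiber y) :=
    (irreducibleSpace_def _).2 (by
      have h := ((irreducibleSpace_def _).1 (inferInstanceAs (IrreducibleSpace
        (PrimeSpectrum (MvPolynomial (ULift.{u} (Fin r)) (Y.residueField y)))))).image φ.hom.homeomorph
        φ.hom.homeomorph.continuous.continuousOn
      rwa [Set.top_eq_univ, Set.image_univ, φ.hom.homeomorph.surjective.range_eq] at h)
  rw [irreducibleComponents_eq_singleton, Set.mem_singleton_iff] at hT
  subst hT
  rw [IsHomeomorph.topologicalKrullDim_eq _ (Homeomorph.Set.univ _).isHomeomorph,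
    ← IsHomeomorph.topologicalKrullDim_eq _ φ.hom.homeomorph.isHomeomorph]
  show topologicalKrullDim (PrimeSpectrum (MvPolynomial (ULift.{u} (Fin r)) (Y.residueField y))) = _
  rw [PrimeSpectrum.topologicalKrullDim_eq_ringKrullDim, MvPolynomial.ringKrullDim_of_isNoetherianRing,
    ringKrullDim_eq_zero_of_field, zero_add]
  simp

/-- A cycle on a sub bundle cut out by a function is rationally equivalent to zero. -/
theorem ratEquivZero_hyper {U V T : Scheme.{u}} [IsLocallyNoetherian U] [IsLocallyNoetherian V] [IsLocallyNoetherian T]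
    {fE : V ⟶ U} {io : T ⟶ V} [IsClosedImmersion io] [LocallyOfFiniteType fE] {n : ℕ}
    (hE : IsAffineBundle fE (n + 1)) (hF : IsAffineBundle (io ≫ fE) n) {δU : U → ℤ} (hdU : Cyc.IsDimFun U δU)
    {δV : V → ℤ} (hdV : Cyc.IsDimFun V δV) (hcE : Cyc.DeltaCompat fE δV δU) {δT : T → ℤ} (hdT : Cyc.IsDimFun T δT)
    (hcT : Cyc.DeltaCompat io δT δV) (τ : Γ(V, ⊤)) (hunit : ∀ v, v ∉ Set.range io → IsUnit (V.presheaf.germ ⊤ v trivial τ))
    (hker : ∀ y, RingHom.ker (io.stalkMap y).hom = Ideal.span {V.presheaf.germ ⊤ (io y) trivial τ})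
    {k : ℤ} (α : AlgebraicCycle T ℤ) (hα : α ∈ Cyc.Zk T δT k) :
    Cyc.RatEquivZero δV k (AlgebraicCycle.map io δT δV α) := by
  classical
  haveI : LocallyOfFiniteType (io ≫ fE) := inferInstance
  have hcF := CycLib28.P1Inter.deltaCompat_comp io fE hcT hcE
  have hrE := hasRelDim_affineBundle hE
  have hrF := hasRelDim_affineBundle hF
  have hδio := delta_closedImmersion io hcT
  obtain ⟨γ, β', hγ, hβ', hrel⟩ := pullFun_surjective hF hdT hdU hrF hcF (k - n) α (by rwa [sub_add_cancel])
  rw [sub_add_cancel] at hrel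
  have hβk : β' ∈ Cyc.Zk T δT k := fun y hy => by
    rw [hβ', Cyc.pullFun]
    split_ifs with h
    · rw [hγ _ (by omega), zero_mul]
    · rfl
  suffices h0 : Cyc.RatEquivZero δV k (AlgebraicCycle.map io δT δV β') by
    have h1 : Ops.cls δT k α = Ops.cls δT k β' := Ops.cls_congr hdT hα hβk hrel
    have h2 := congrArg (Ops.push io δT δV) h1
    rw [Ops.push_cls io hdT hdV hcT hα, Ops.push_cls io hdT hdV hcT hβk] at h2
    have h3 : Cyc.RatEquiv δV k (AlgebraicCycle.map io δT δV α) (AlgebraicCycle.map io δT δV β') :=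
      (Ops.cls_eq_iff hdV (map_mem_Zk io δT δV hα) (map_mem_Zk io δT δV hβk)).1 h2
    have h5 := ratEquiv_trans h3 (show Cyc.RatEquiv δV k (AlgebraicCycle.map io δT δV β') 0 by
      rw [Cyc.RatEquiv, sub_zero]; exact h0)
    rwa [Cyc.RatEquiv, sub_zero] at h5
  have hmap : ∀ (c : AlgebraicCycle T ℤ) (y : T), AlgebraicCycle.map io δT δV c (io y) = c y := fun c y => by
    rw [show δT = fun y => δV (io y) from funext hδio, map_closedImmersion_apply]
  have hmap0 : ∀ (c : AlgebraicCycle T ℤ) (v : V), v ∉ Set.range io → AlgebraicCycle.map io δT δV c v = 0 := fun c v hv => by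
    rw [show δT = fun y => δV (io y) from funext hδio, map_closedImmersion_eq_zero io _ _ _ v hv]
  let S : Type u := {ξ : U // γ ξ ≠ 0}
  have hηout : ∀ ξ : U, fgen hE ξ ∉ Set.range io := by
    rintro ξ ⟨y, hy⟩
    have h1 := delta_fgen hE hrE hcE ξ
    rw [← hy, ← hδio] at h1
    have h2 := delta_le_affine hF hdT hrF hcF y
    have h3 : (io ≫ fE) y = ξ := by rw [Scheme.Hom.comp_apply, hy, f_fgen]
    rw [h3] at h2
    omega
  let g : (s : S) → V.residueField (fgen hE s.1) := fun s => V.evaluation ⊤ (fgen hE s.1) trivial τ ^ γ s.1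
  have hev : ∀ ξ : U, V.evaluation ⊤ (fgen hE ξ) trivial τ ≠ 0 := fun ξ =>
    ((hunit _ (hηout ξ)).map (V.residue (fgen hE ξ)).hom).ne_zero
  have hδS : ∀ s : S, δV (fgen hE s.1) = k + 1 := fun s => by
    have h1 : δU s.1 = k - n := by_contra fun h => s.2 (hγ s.1 h)
    rw [delta_fgen hE hrE hcE, h1]
    push_cast
    ring
  refine ⟨S, fun s => fgen hE s.1, g, hδS, fun s => zpow_ne_zero _ (hev _), fun x => ?_, fun v => ?_⟩
  · obtain ⟨_, ⟨W, hW, rfl⟩, hxW, -⟩ :=
      U.isBasis_affineOpens.exists_subset_of_mem_open (Set.mem_univ (fE x)) isOpen_univ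
    refine ⟨fE ⁻¹' (W : Set U), W.2.preimage fE.continuous, hxW, ?_⟩
    have hfin := (Function.locallyFinsupp.locallyFiniteSupport γ).finite_inter_support_of_isCompact
      (show IsAffineOpen W from hW).isCompact
    refine (hfin.preimage Subtype.val_injective.injOn).subset ?_
    rintro s ⟨z, hz1, hz2⟩
    refine ⟨?_, s.2⟩
    have := ((specializes_iff_mem_closure.2 hz1).map fE.continuous).mem_open W.2 hz2
    rwa [f_fgen] at this
  have hd : ∀ s : S, Cyc.divFun δV (fgen hE s.1) (g s) v = γ s.1 * Cyc.divFun δV (fgen hE s.1)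
      (V.evaluation ⊤ (fgen hE s.1) trivial τ) v := fun s => by
    simp only [Cyc.divFun, g]
    split_ifs with h
    · rw [ordAt_zpow hdV h.1 h.2 (hev _)]
    · rw [mul_zero]
  rw [finsum_congr hd]
  by_cases hv : v ∈ Set.range io
  swap
  · rw [hmap0 _ v hv, finsum_eq_zero_of_forall_eq_zero]
    intro s
    rw [divFun_evaluation (U := ⊤) (q := v) trivial trivial τ]
    split_ifs with h
    · rw [ordAt_unit hdV h.1 h.2 _ (hunit v hv), mul_zero]
    · rw [mul_zero]
  obtain ⟨y, rfl⟩ := hv
  rw [hmap]
  have hterm : ∀ s : S, Cyc.divFun δV (fgen hE s.1) (V.evaluation ⊤ (fgen hE s.1) trivial τ) (io y) =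
      if δT y = k ∧ y = fgen hF s.1 then 1 else 0 := by
    intro s
    rw [divFun_evaluation (U := ⊤) (q := io y) trivial trivial τ]
    by_cases hy : δT y = k ∧ y = fgen hF s.1
    · obtain ⟨hyk, hy'⟩ := hy
      have hfy : fE (io y) = s.1 := by
        rw [← Scheme.Hom.comp_apply, hy']
        exact f_fgen hF s.1
      have hsp : fgen hE s.1 ⤳ io y := by
        have := fgen_specializes hE (x := io y)
        rwa [hfy] at this
      have hdd : δV (io y) + 1 = δV (fgen hE s.1) := by rw [hδS, ← hδio, hyk]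
      rw [dif_pos ⟨hsp, hdd⟩, if_pos ⟨hyk, hy'⟩]
      have hnu : V.presheaf.germ ⊤ (io y) trivial τ ∈ maximalIdeal (V.presheaf.stalk (io y)) := by
        refine le_maximalIdeal (J := RingHom.ker (io.stalkMap y).hom) (RingHom.ker_ne_top _) ?_
        rw [hker]
        exact Ideal.mem_span_singleton_self _
      refine ordAt_eq_one hdV hsp hdd _ hnu ?_ ?_
      · rw [specMap_germ]
        exact hev _
      · intro a ha
        have hlen : Module.length (T.presheaf.stalk y) (T.presheaf.stalk y ⧸ Ideal.map ((io ≫ fE).stalkMap y).hom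
            (maximalIdeal (U.presheaf.stalk ((io ≫ fE) y)))) = 1 := by
          have key : ∀ z, z = fgen hF s.1 → Module.length (T.presheaf.stalk z) (T.presheaf.stalk z ⧸
              Ideal.map ((io ≫ fE).stalkMap z).hom (maximalIdeal (U.presheaf.stalk ((io ≫ fE) z)))) = 1 := by
            rintro z rfl
            exact length_fgen hF s.1
          exact key y hy'
        rw [Module.length_eq_one_iff, isSimpleModule_iff_isCoatom, ← Ideal.isMaximal_def] at hlen
        have hmax := IsLocalRing.eq_maximalIdeal hlen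
        have h1 : (io.stalkMap y).hom a ∈ maximalIdeal (T.presheaf.stalk y) :=
          (IsLocalRing.mem_maximalIdeal _).2 fun hu =>
            (IsLocalRing.mem_maximalIdeal _).1 ha (isUnit_of_map_unit (io.stalkMap y).hom a hu)
        rw [← hmax, Scheme.Hom.stalkMap_comp] at h1
        change (io.stalkMap y).hom a ∈ Ideal.map ((fE.stalkMap (io y) ≫ io.stalkMap y).hom)
          (maximalIdeal (U.presheaf.stalk (fE (io y)))) at h1
        rw [CommRingCat.hom_comp, ← Ideal.map_map,
          Ideal.mem_map_iff_of_surjective _ (io.stalkMap_surjective y)] at h1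
        obtain ⟨b, hb, hba⟩ := h1
        have hab : a - b ∈ RingHom.ker (io.stalkMap y).hom := by rw [RingHom.mem_ker, map_sub, hba, sub_self]
        rw [hker] at hab
        have hle : Ideal.map (fE.stalkMap (io y)).hom (maximalIdeal (U.presheaf.stalk (fE (io y)))) ≤
            RingHom.ker (Cyc.specMap (io y) (fgen hE s.1) hsp) := by
          refine Ideal.map_le_iff_le_comap.2 fun c hc => ?_
          rw [Ideal.mem_comap, RingHom.mem_ker]
          show V.residue _ (V.presheaf.stalkSpecializes hsp (fE.stalkMap (io y) c)) = 0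
          refine (IsLocalRing.residue_eq_zero_iff _).2 ?_
          rw [← Scheme.Hom.stalkSpecializes_stalkMap_apply fE _ _ hsp]
          refine (IsLocalRing.mem_maximalIdeal _).2 fun hu => ?_
          have hu' := isUnit_of_map_unit (fE.stalkMap (fgen hE s.1)).hom _ hu
          have key : ∀ (z : U) (hz : z ⤳ fE (io y)), z = fE (io y) →
              ∀ c, IsUnit (U.presheaf.stalkSpecializes hz c) → IsUnit c := by
            rintro z hz rfl c hc
            rwa [TopCat.Presheaf.stalkSpecializes_refl] at hc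
          exact (IsLocalRing.mem_maximalIdeal _).1 hc (key _ _ (by rw [f_fgen, hfy]) c hu')
        exact Submodule.mem_sup.2 ⟨b, hle hb, a - b, hab, by ring⟩
    · rw [if_neg hy]
      split_ifs with h
      · exfalso
        refine hy ?_
        have h1 : δT y = k := by have := h.2; rw [hδS, ← hδio] at this; omega
        have h2 := h.1.map fE.continuous
        rw [f_fgen] at h2
        have h3 := delta_le_affine hF hdT hrF hcF y
        have h4 : δU s.1 = k - n := by_contra fun h => s.2 (hγ s.1 h)
        have h5 : (io ≫ fE) y = s.1 := by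
          by_contra hne
          have := (hdU s.1 ((io ≫ fE) y) h2 (fun e => hne e.symm)).1
          omega
        rw [h5] at h3
        refine ⟨h1, ?_⟩
        rw [← h5]
        exact eq_fgen hF hdT hrF hcF (by rw [h5]; omega)
      · rfl
  rw [finsum_congr fun s => congrArg (γ s.1 * ·) (hterm s), hβ', Cyc.pullFun]
  by_cases hyy : δT y = δU ((io ≫ fE) y) + n
  swap
  · rw [if_neg hyy, finsum_eq_zero_of_forall_eq_zero]
    intro s
    rw [if_neg, mul_zero]
    rintro ⟨-, h2⟩
    refine hyy ?_
    rw [h2, delta_fgen hF hrF hcF, f_fgen]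
  rw [if_pos hyy]
  have he := eq_fgen hF hdT hrF hcF hyy
  have key : ∀ z, z = fgen hF ((io ≫ fE) y) → Module.length (T.presheaf.stalk z) (T.presheaf.stalk z ⧸
      Ideal.map ((io ≫ fE).stalkMap z).hom (maximalIdeal (U.presheaf.stalk ((io ≫ fE) z)))) = 1 := by
    rintro z rfl
    exact length_fgen hF _
  rw [key y he]
  show γ ((io ≫ fE) y) * ((1 : ℕ∞).toNat : ℤ) = _
  rw [ENat.toNat_one, Nat.cast_one, mul_one]
  by_cases hγ0 : γ ((io ≫ fE) y) = 0
  · rw [hγ0, finsum_eq_zero_of_forall_eq_zero]
    intro s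
    rw [if_neg, mul_zero]
    rintro ⟨-, h2⟩
    refine s.2 ?_
    have : (io ≫ fE) y = s.1 := by rw [h2, f_fgen]
    rw [← this, hγ0]
  · have hk' : δT y = k := by have : δU ((io ≫ fE) y) = k - n := by_contra fun h => hγ0 (hγ _ h); omega
    rw [finsum_eq_single _ (⟨(io ≫ fE) y, hγ0⟩ : S), if_pos ⟨hk', he⟩, mul_one]
    intro s hs
    rw [if_neg, mul_zero]
    rintro ⟨-, h2⟩
    refine hs (Subtype.ext (show s.1 = (io ≫ fE) y from ?_))
    exact (f_fgen hF s.1).symm.trans (congrArg (io ≫ fE) h2.symm)

end Groth.Agent.Thom28
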