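import Groth.Agent.Thom28.ZeroLine
import Groth.Agent.Thom28.Fund
import Groth.Agent.CycLib28.FlatDiv
import Groth.Agent.CycLib28.PB.GysinSquare

/-!
# Pulling back closed subschemes and zero schemes to a projective bundle
-/

set_option autoImplicit false
set_option linter.unusedSectionVars false
set_option linter.style.haveILetI false
set_option backward.isDefEq.respectTransparency.types false
set_option maxHeartbeats 1000000

universe u

open AlgebraicGeometry CategoryTheory CategoryTheory.Limits TopologicalSpace IsLocalRing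
open Groth.Agent.KRRPBLib Groth.Agent.Coherent Groth.Agent.PicLib Groth.Agent.CycLim28
open Groth.Agent.CycLib28 Groth.Agent.CycLib28.PB

namespace Groth.Agent.Thom28

/-- The closed subscheme where a section vanishes. -/
def IsZeroOf {X Z : Scheme.{u}} {E : X.Modules} (i : Z ⟶ X) (s : Γ(E, ⊤)) : Prop :=
  Set.range i = {x : X | sI s x ≤ maximalIdeal (X.presheaf.stalk x)} ∧
    ∀ z, RingHom.ker (i.stalkMap z).hom = sI s (i z)

theorem length_stalk_closed {X Z : Scheme.{u}} (i : Z ⟶ X) [IsClosedImmersion i] (z : Z) :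
    Module.length (Z.presheaf.stalk z) (Z.presheaf.stalk z) =
      Module.length (X.presheaf.stalk (i z)) (X.presheaf.stalk (i z) ⧸ RingHom.ker (i.stalkMap z).hom) := by
  algebraize [(i.stalkMap z).hom]
  rw [← Module.length_eq_of_surjective (S := X.presheaf.stalk (i z)) (M := Z.presheaf.stalk z)
    (R := Z.presheaf.stalk z) (i.stalkMap_surjective z)]
  exact ((Algebra.linearMap (X.presheaf.stalk (i z)) (Z.presheaf.stalk z)).quotKerEquivOfSurjective
    (i.stalkMap_surjective z)).length_eq.symm

theorem length_quot_map {X P : Scheme.{u}} (f : P ⟶ X) [Flat f] (y : P) (I : Ideal (X.presheaf.stalk (f y))) :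
    Module.length (P.presheaf.stalk y) (P.presheaf.stalk y ⧸ I.map (f.stalkMap y).hom) =
      Module.length (X.presheaf.stalk (f y)) (X.presheaf.stalk (f y) ⧸ I) * lenFibre f y := by
  algebraize [(f.stalkMap y).hom]
  have : Module.Flat (X.presheaf.stalk (f y)) (P.presheaf.stalk y) := Flat.stalkMap f y
  have : IsLocalHom (algebraMap (X.presheaf.stalk (f y)) (P.presheaf.stalk y)) :=
    inferInstanceAs (IsLocalHom (f.stalkMap y).hom)
  refine Eq.trans ?_ (IsLocalRing.length_baseChange (X.presheaf.stalk (f y)) (P.presheaf.stalk y)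
    (X.presheaf.stalk (f y) ⧸ I))
  exact (Algebra.TensorProduct.quotIdealMapEquivTensorQuot (P.presheaf.stalk y) I).toLinearEquiv.length_eq

theorem ker_fst {X Y Z : Scheme.{u}} (g : Y ⟶ X) {E : X.Modules} {r : ℕ} (hE : FlatMod.IsFinLocFreeOfRank r E)
    {i : Z ⟶ X} [IsClosedImmersion i] {s : Γ(E, ⊤)} (hZ : IsZeroOf i s) :
    IsZeroOf (pullback.fst g i) (pullSec g s : Γ((Scheme.Modules.pullback g).obj E, ⊤)) := by
  have hgi : ∀ z, g (pullback.fst g i z) = i (pullback.snd g i z) := fun z =>
    congrArg (fun f : pullback g i ⟶ X ↦ f z) pullback.condition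
  refine ⟨?_, fun z => ?_⟩
  · ext x
    have h1 : x ∈ Set.range (pullback.fst g i) ↔ g x ∈ Set.range i := by
      rw [Scheme.Pullback.range_fst]; rfl
    rw [h1, hZ.1]
    show sI s (g x) ≤ _ ↔ sI _ x ≤ _
    rw [sI_pullback g hE, Ideal.map_le_iff_le_comap, IsLocalRing.maximalIdeal_comap (g.stalkMap x).hom]
  · obtain ⟨_, ⟨V, hV, rfl⟩, hqV, -⟩ :=
      X.isBasis_affineOpens.exists_subset_of_mem_open (Set.mem_univ (g (pullback.fst g i z))) isOpen_univ
    replace hV : IsAffineOpen V := hV
    rw [ker_stalkMap_fst g i z ⟨V, hV⟩ hqV, sI_pullback g hE]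
    refine congrArg (Ideal.map (g.stalkMap (pullback.fst g i z)).hom) ?_
    have key : ∀ (q : X) (_ : q = i (pullback.snd g i z)) (hq : q ∈ V),
        Ideal.map (X.presheaf.germ V q hq).hom (i.ker.ideal ⟨V, hV⟩) = sI s q := by
      rintro q rfl hq
      rw [← hZ.2, CAlgH.CIImmersion.ker_stalkMap_eq i _ hV hq, ← Scheme.Hom.ker_apply _ ⟨V, hV⟩]
    exact key _ (hgi z) hqV

/-- Pull back of the cycle of a closed subscheme. -/
theorem subschemeFun_pullback {X P Z : Scheme.{u}} {G : X.Modules} {p : P ⟶ X} {O1 : P.Modules}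
    {q : (Scheme.Modules.pullback p).obj G ⟶ O1} [IsProper p] [IsLocallyNoetherian P] [Coh.IsQCoh G]
    {δ : X → ℤ} {δP : P → ℤ} {m : ℕ} (hG : FlatMod.IsFinLocFreeOfRank (m + 1) G)
    (hP : KRR.IsProjBundle p G O1 q) (hdP : Cyc.IsDimFun P δP) (hc : Cyc.DeltaCompat p δP δ)
    (i : Z ⟶ X) [IsClosedImmersion i] {k : ℤ} (hk : ∀ z, δ (i z) ≤ k) :
    Cyc.subschemeFun δP (k + m) (pullback.fst p i) = Cyc.pullFun p δP δ (m : ℤ) (Cyc.subschemeFun δ k i) := by
  classical
  haveI : Flat p := flat_of_isProjBundle hG hP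
  funext y
  rw [pullFun_apply hG hP hdP hc]
  by_cases hy : y ∈ Set.range (pullback.fst p i)
  · obtain ⟨w, rfl⟩ := hy
    have hpi : p (pullback.fst p i w) = i (pullback.snd p i w) :=
      congrArg (fun f : pullback p i ⟶ X ↦ f w) pullback.condition
    have hle := delta_le_bundle hG hP hdP hc (pullback.fst p i w)
    have hz := hk (pullback.snd p i w)
    rw [← hpi] at hz
    by_cases hd : δP (pullback.fst p i w) = k + m
    · have he : pullback.fst p i w = eta hG hP (p (pullback.fst p i w)) 0 := eq_eta_zero hG hP hdP hc rfl (by omega)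
      rw [if_pos he, Cyc.subschemeFun, if_pos hd, Cyc.subschemeFun, if_pos (by omega : δ (p (pullback.fst p i w)) = k),
        show {v | pullback.fst p i v = pullback.fst p i w} = {w} from Set.ext fun v ↦
          ⟨fun h ↦ (pullback.fst p i).isClosedEmbedding.injective h, fun h ↦ congrArg _ h⟩, finsum_mem_singleton,
        show {v | i v = p (pullback.fst p i w)} = {pullback.snd p i w} from Set.ext fun v ↦
          ⟨fun h ↦ i.isClosedEmbedding.injective (h.trans hpi), fun h ↦ (congrArg i h).trans hpi.symm⟩,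
        finsum_mem_singleton, length_stalk_closed (pullback.fst p i) w, length_stalk_closed i (pullback.snd p i w)]
      obtain ⟨_, ⟨V, hV, rfl⟩, hqV, -⟩ :=
        X.isBasis_affineOpens.exists_subset_of_mem_open (Set.mem_univ (p (pullback.fst p i w))) isOpen_univ
      replace hV : IsAffineOpen V := hV
      rw [ker_stalkMap_fst p i w ⟨V, hV⟩ hqV, length_quot_map]
      have hl : ∀ z : P, z = eta hG hP (p (pullback.fst p i w)) 0 → lenFibre p z = 1 := by
        rintro z rfl
        exact length_fibre_flagPt_zero hP _ _ _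
      rw [hl _ he, mul_one]
      have key : ∀ (x : X) (_ : x = i (pullback.snd p i w)) (hx : x ∈ V),
          Module.length (X.presheaf.stalk x) (X.presheaf.stalk x ⧸ Ideal.map (X.presheaf.germ V x hx).hom (i.ker.ideal ⟨V, hV⟩)) =
            Module.length (X.presheaf.stalk (i (pullback.snd p i w)))
              (X.presheaf.stalk (i (pullback.snd p i w)) ⧸ RingHom.ker (i.stalkMap (pullback.snd p i w)).hom) := by
        rintro x rfl hx
        rw [CAlgH.CIImmersion.ker_stalkMap_eq i _ hV hx, ← Scheme.Hom.ker_apply _ ⟨V, hV⟩]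
      rw [key _ hpi hqV]
    · rw [Cyc.subschemeFun, if_neg hd]
      split_ifs with he
      · rw [Cyc.subschemeFun, if_neg]
        intro h
        apply hd
        conv_lhs => rw [he]
        rw [delta_eta hG hP hdP hc]
        simp [h]
      · rfl
  · have h0 : Cyc.subschemeFun δP (k + m) (pullback.fst p i) y = 0 := by
      rw [Cyc.subschemeFun, show {v | pullback.fst p i v = y} = ∅ from
        Set.eq_empty_of_forall_notMem fun v hv => hy ⟨v, hv⟩, finsum_mem_empty, ite_self]
    rw [h0]
    have h1 : p y ∉ Set.range i := fun h => hy (by rw [Scheme.Pullback.range_fst]; exact h)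
    rw [Cyc.subschemeFun, show {v | i v = p y} = ∅ from
      Set.eq_empty_of_forall_notMem fun v hv => h1 ⟨v, hv⟩, finsum_mem_empty, ite_self, ite_self]

end Groth.Agent.Thom28
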