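import Groth.Agent.Thom28.PullZero

/-!
# The image of a section in `O(1)`
-/

set_option autoImplicit false
set_option linter.unusedSectionVars false
set_option linter.style.haveILetI false
set_option backward.isDefEq.respectTransparency.types false
set_option maxHeartbeats 1000000

universe u

open AlgebraicGeometry CategoryTheory CategoryTheory.Limits TopologicalSpace IsLocalRing
open Groth.Agent.KRRPBLib Groth.Agent.Coherent Groth.Agent.PicLib Groth.Agent.CycLim28
open Groth.Agent.CycLib28 Groth.Agent.CycLib28.PB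

namespace Groth.Agent.Thom28

/-- A linear polynomial with a unit coefficient is regular. -/
theorem linear_regular {A : Type*} [CommRing A] {σ : Type*} [Fintype σ] (c₀ : A) (c : σ → A) (j : σ) (hj : IsUnit (c j)) :
    IsSMulRegular (MvPolynomial σ A) (MvPolynomial.C c₀ + ∑ i, MvPolynomial.C (c i) * MvPolynomial.X i) := by
  classical
  set g := MvPolynomial.C c₀ + ∑ i, MvPolynomial.C (c i) * MvPolynomial.X i
  obtain ⟨u, hu⟩ := hj
  let rest : MvPolynomial σ A := MvPolynomial.C c₀ + ∑ i ∈ Finset.univ.erase j, MvPolynomial.C (c i) * MvPolynomial.X i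
  have hg : g = MvPolynomial.C (c j) * MvPolynomial.X j + rest := by
    simp only [g, rest]
    rw [← Finset.add_sum_erase _ _ (Finset.mem_univ j)]
    ring
  let φ : MvPolynomial σ A →ₐ[A] MvPolynomial σ A :=
    MvPolynomial.aeval fun i => if i = j then MvPolynomial.C (↑u⁻¹ : A) * (MvPolynomial.X j - rest) else MvPolynomial.X i
  let ψ : MvPolynomial σ A →ₐ[A] MvPolynomial σ A :=
    MvPolynomial.aeval fun i => if i = j then g else MvPolynomial.X i
  have hφrest : φ rest = rest := by
    simp only [rest, map_add, map_sum, map_mul, φ, MvPolynomial.aeval_C, MvPolynomial.aeval_X]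
    refine congrArg _ (Finset.sum_congr rfl fun i hi => ?_)
    rw [if_neg (Finset.ne_of_mem_erase hi)]
    rfl
  have hψrest : ψ rest = rest := by
    simp only [rest, map_add, map_sum, map_mul, ψ, MvPolynomial.aeval_C, MvPolynomial.aeval_X]
    refine congrArg _ (Finset.sum_congr rfl fun i hi => ?_)
    rw [if_neg (Finset.ne_of_mem_erase hi)]
    rfl
  have hφg : φ g = MvPolynomial.X j := by
    rw [hg, map_add, hφrest, map_mul]
    simp only [φ, MvPolynomial.aeval_C, MvPolynomial.aeval_X, ↓reduceIte]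
    rw [MvPolynomial.algebraMap_eq, ← mul_assoc, ← map_mul, ← hu, Units.mul_inv, map_one, one_mul, sub_add_cancel]
  have hψφ : ψ.comp φ = AlgHom.id A _ := by
    refine MvPolynomial.algHom_ext fun i => ?_
    show ψ (φ (MvPolynomial.X i)) = MvPolynomial.X i
    simp only [φ, MvPolynomial.aeval_X]
    split_ifs with h
    · subst h
      rw [map_mul, map_sub, hψrest]
      simp only [ψ, MvPolynomial.aeval_C, MvPolynomial.aeval_X, ↓reduceIte]
      rw [MvPolynomial.algebraMap_eq, hg, add_sub_cancel_right, ← mul_assoc, ← map_mul, ← hu, Units.inv_mul, map_one,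
        one_mul]
    · simp [ψ, h]
  intro x y hxy
  have h1 := congrArg φ (show g * x = g * y from hxy)
  rw [map_mul, map_mul, hφg] at h1
  have h2 : φ x = φ y := by
    refine MvPolynomial.ext _ _ fun d => ?_
    have := congrArg (MvPolynomial.coeff (Finsupp.single j 1 + d)) h1
    rwa [MvPolynomial.coeff_X_mul, MvPolynomial.coeff_X_mul] at this
  have h3 := congrArg ψ h2
  rwa [show ψ (φ x) = x from AlgHom.congr_fun hψφ x, show ψ (φ y) = y from AlgHom.congr_fun hψφ y] at h3

/-- Generators of an ideal generated by a regular sequence: a combination with a unit coefficient. -/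
theorem exists_unit_comb {R : Type u} [CommRing R] [IsLocalRing R] [IsNoetherianRing R] {N : ℕ} (f c a : Fin N → R)
    (hf : RingTheory.Sequence.IsRegular R (List.ofFn f)) (hspan : Ideal.span (Set.range f) = Ideal.span (Set.range c))
    (k : Fin N) (hk : IsUnit (a k)) : ∃ (a' : Fin N → R) (l : Fin N), IsUnit (a' l) ∧ ∑ i, a i * c i = ∑ i, a' i * f i := by
  classical
  have hc : ∀ i, ∃ r : Fin N → R, ∑ j, r j * f j = c i := fun i => by
    have : c i ∈ Ideal.span (Set.range f) := hspan ▸ Ideal.subset_span ⟨i, rfl⟩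
    exact (Ideal.mem_span_range_iff_exists_fun).1 this
  have hfc : ∀ i, ∃ r : Fin N → R, ∑ j, r j * c j = f i := fun i => by
    have : f i ∈ Ideal.span (Set.range c) := hspan ▸ Ideal.subset_span ⟨i, rfl⟩
    exact (Ideal.mem_span_range_iff_exists_fun).1 this
  choose A hA using hc
  choose B hB using hfc
  -- relations among a regular sequence have coefficients in the maximal ideal
  have hrel : ∀ x : Fin N → R, ∑ j, x j * f j = 0 → ∀ l, x l ∈ maximalIdeal R := by
    intro x hx l
    by_contra hu
    rw [IsLocalRing.mem_maximalIdeal, mem_nonunits_iff, not_not] at hu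
    obtain ⟨m, rfl⟩ : ∃ m, N = m + 1 := ⟨N - 1, by have := l.isLt; omega⟩
    have hmem : ∀ i, f i ∈ maximalIdeal R := fun i => by
      refine IsLocalRing.le_maximalIdeal (J := Ideal.ofList (List.ofFn f)) (fun hT => hf.top_ne_smul ?_)
        (Ideal.subset_span (show f i ∈ {r | r ∈ List.ofFn f} from List.mem_ofFn.2 ⟨i, rfl⟩))
      rw [show Ideal.ofList (List.ofFn f) = (⊤ : Ideal R) from hT, Submodule.top_smul]
    let h : Fin m → R := fun j => f (l.succAbove j)
    have h1 : List.ofFn (fun i => f ((Fin.cycleRange l).symm i)) = f l :: List.ofFn h := by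
      rw [List.ofFn_succ]
      simp [h, Fin.cycleRange_symm_zero, Fin.cycleRange_symm_succ]
    have h2 : List.Perm (List.ofFn (fun i => f ((Fin.cycleRange l).symm i))) (List.ofFn f) :=
      Equiv.Perm.ofFn_comp_perm (Fin.cycleRange l).symm f
    rw [h1] at h2
    have hw := IsLocalRing.isWeaklyRegular_of_perm_of_subset_maximalIdeal hf.toIsWeaklyRegular
      (h2.symm.trans (List.perm_append_singleton _ _).symm) fun r hr => by
        obtain ⟨i, rfl⟩ := List.mem_ofFn.1 hr
        exact hmem i
    rw [RingTheory.Sequence.isWeaklyRegular_append_iff, RingTheory.Sequence.isWeaklyRegular_singleton_iff] at hw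
    have hh : Ideal.ofList (List.ofFn h) ≤ maximalIdeal R := Ideal.span_le.2 fun z hz => by
      obtain ⟨j, rfl⟩ := List.mem_ofFn.1 hz
      exact hmem _
    have hfl : f l ∈ Ideal.ofList (List.ofFn h) • (⊤ : Ideal R) := by
      rw [smul_eq_mul, Ideal.mul_top]
      refine (Ideal.unit_mul_mem_iff_mem _ hu).1 ?_
      rw [Fin.sum_univ_succAbove _ l, add_eq_zero_iff_eq_neg] at hx
      rw [hx]
      refine neg_mem (Ideal.sum_mem _ fun j _ => Ideal.mul_mem_left _ _ ?_)
      exact Ideal.subset_span (show h j ∈ {r | r ∈ List.ofFn h} from List.mem_ofFn.2 ⟨j, rfl⟩)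
    have h0 : f l • (Submodule.Quotient.mk 1 : R ⧸ Ideal.ofList (List.ofFn h) • (⊤ : Ideal R)) = f l • 0 := by
      rw [smul_zero, ← Submodule.Quotient.mk_smul, Submodule.Quotient.mk_eq_zero, smul_eq_mul (a := f l), mul_one]
      exact hfl
    have := hw.2 h0
    rw [Submodule.Quotient.mk_eq_zero, smul_eq_mul, Ideal.mul_top] at this
    exact (IsLocalRing.maximalIdeal.isMaximal R).ne_top ((Ideal.eq_top_iff_one _).2 (hh this))
  let res := IsLocalRing.residue R
  let A' : Matrix (Fin N) (Fin N) (IsLocalRing.ResidueField R) := fun i j => res (A i j)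
  let B' : Matrix (Fin N) (Fin N) (IsLocalRing.ResidueField R) := fun i j => res (B i j)
  have hBA : B' * A' = 1 := by
    ext i l
    have h := hrel (fun j => (∑ t, B i t * A t j) - if i = j then 1 else 0) (by
      simp only [sub_mul, Finset.sum_sub_distrib, ite_mul, one_mul, zero_mul, Finset.sum_ite_eq, Finset.mem_univ,
        if_true, Finset.sum_mul, mul_assoc]
      rw [Finset.sum_comm]
      simp only [← Finset.mul_sum, hA, hB, sub_self]) l
    rw [← IsLocalRing.residue_eq_zero_iff, map_sub, map_sum, sub_eq_zero] at h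
    simp only [map_mul] at h
    show ∑ t, res (B i t) * res (A t l) = (1 : Matrix (Fin N) (Fin N) (IsLocalRing.ResidueField R)) i l
    rw [h, Matrix.one_apply]
    split_ifs <;> simp
  have hAB : A' * B' = 1 := mul_eq_one_comm.1 hBA
  let a' : Fin N → R := fun j => ∑ i, a i * A i j
  have hsum : ∑ i, a i * c i = ∑ j, a' j * f j := by
    simp only [a', Finset.sum_mul, mul_assoc]
    rw [Finset.sum_comm]
    simp only [← Finset.mul_sum, hA]
  refine ⟨a', ?_⟩
  by_contra hcon
  simp only [not_exists, not_and] at hcon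
  have h0 : Matrix.vecMul (fun i => res (a i)) A' = 0 := by
    funext j
    show ∑ i, res (a i) * res (A i j) = 0
    simp only [← map_mul, ← map_sum]
    exact (IsLocalRing.residue_eq_zero_iff _).2 ((IsLocalRing.mem_maximalIdeal _).2 fun hu => hcon j hu hsum)
  have h1 : (fun i => res (a i)) = 0 := by
    rw [← Matrix.vecMul_one (fun i => res (a i)), ← hAB, ← Matrix.vecMul_vecMul, h0, Matrix.zero_vecMul]
  exact (hk.map res).ne_zero (congrFun h1 k)

variable {X P : Scheme.{u}} {E : X.Modules} {p : P ⟶ X} {O1 : P.Modules}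
  {q : (Scheme.Modules.pullback p).obj E ⟶ O1}

theorem sec_eq_app (s : Γ(E, ⊤)) :
    sec q s = q.app (p ⁻¹ᵁ ⊤) (pullSec p s) := by
  rw [sec, adjunct, Adjunction.homEquiv_unit]
  rfl

/-- The image in `O(1)` of a section on the chart of a basis vector. -/
theorem sI_sec [Coh.IsQCoh E] (hinv : PicF.IsInvertible O1) {U : X.Opens} {n : ℕ}
    (b : Module.Basis (Fin n) Γ(X, U) Γ(E, U)) (s : Γ(E, ⊤)) (c : Fin n → Γ(X, U))
    (hc : resM E le_top s = ∑ i, c i • b i) (k : Fin n) {y : P} (hy : y ∈ D q (b k)) :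
    sI (sec q s : Γ(O1, ⊤)) y = Ideal.span {P.presheaf.germ (D q (b k)) y hy
      (∑ i, p.appLE U (D q (b k)) (D_le q (b k)) (c i) * coord q (b k) (b i))} := by
  rw [sI_line (sec q s : Γ(O1, ⊤)) (isGen_D q (b k)) hinv hy]
  congr 3
  refine IsGen.coef_eq _ _ ?_
  rw [resM_self]
  have h1 : resM O1 (p.preimage_mono (le_top : U ≤ ⊤)) (sec q s) = ∑ i, p.app U (c i) • sec q (b i) := by
    rw [← sec_res q le_top, hc]
    refine (map_sum ((adjunct q).app U).hom _ _).trans (Finset.sum_congr rfl fun i _ => ?_)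
    exact Scheme.Modules.Hom.app_smul _ _ _
  have h2 := congrArg (resM O1 (D_le q (b k))) h1
  rw [resM_resM, map_sum] at h2
  refine Eq.trans ?_ h2.symm
  rw [Finset.sum_smul]
  refine Finset.sum_congr rfl fun i _ => ?_
  rw [mul_smul, coord_spec]
  refine Eq.trans ?_ (resM_smul O1 _ _ _).symm
  rfl

/-- Regularity of the image in `O(1)` of a section that is part of a basis. -/
theorem regular_sec_germ [Coh.IsQCoh E] (hP : KRR.IsProjBundle p E O1 q) {U : X.Opens} (hU : IsAffineOpen U) {m : ℕ}
    (b : Module.Basis (Fin (m + 1)) Γ(X, U) Γ(E, U)) (c : Fin (m + 1) → Γ(X, U)) (k : Fin (m + 1)) (j : Fin m)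
    (hj : IsUnit (c (k.succAbove j))) {y : P} (hy : y ∈ D q (b k)) :
    IsSMulRegular (P.presheaf.stalk y) (P.presheaf.germ (D q (b k)) y hy
      (∑ i, p.appLE U (D q (b k)) (D_le q (b k)) (c i) * coord q (b k) (b i))) := by
    classical
    set γ : Γ(P, D q (b k)) := ∑ i, p.appLE U (D q (b k)) (D_le q (b k)) (c i) * coord q (b k) (b i)
    let g : MvPolynomial (Fin m) Γ(X, U) := MvPolynomial.C (c k) +
      ∑ j, MvPolynomial.C (c (k.succAbove j)) * MvPolynomial.X j
    have hg : IsSMulRegular (MvPolynomial (Fin m) Γ(X, U)) g := linear_regular _ _ j hj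
    have hγ : KRRPBLib.coordHom (q := q) b k g = γ := by
      simp only [g, γ, KRRPBLib.coordHom, map_add, map_sum, map_mul, MvPolynomial.eval₂Hom_C, MvPolynomial.eval₂Hom_X']
      rw [Fin.sum_univ_succAbove _ k, coord_self, mul_one]
    have hD := isAffineOpen_D hP hU b k
    haveI : IsIso ((D q (b k)).toSpecΓ ≫ Spec.map (CommRingCat.ofHom (KRRPBLib.coordHom (q := q) b k))) :=
      isIso_toAffineSpace hP hU b k
    haveI : IsIso (D q (b k)).toSpecΓ := by
      rw [← hD.isoSpec_hom]
      infer_instance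
    haveI : IsIso (Spec.map (CommRingCat.ofHom (KRRPBLib.coordHom (q := q) b k))) :=
      IsIso.of_isIso_comp_left (D q (b k)).toSpecΓ _
    haveI : IsIso (Scheme.Spec.map (CommRingCat.ofHom (KRRPBLib.coordHom (q := q) b k)).op) := ‹IsIso (Spec.map _)›
    haveI : IsIso (CommRingCat.ofHom (KRRPBLib.coordHom (q := q) b k)).op := isIso_of_reflects_iso _ Scheme.Spec
    haveI : IsIso (CommRingCat.ofHom (KRRPBLib.coordHom (q := q) b k)) := isIso_of_op _
    have hbij : Function.Bijective (KRRPBLib.coordHom (q := q) b k) :=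
      ConcreteCategory.bijective_of_isIso (CommRingCat.ofHom (KRRPBLib.coordHom (q := q) b k))
    have hγreg : IsSMulRegular Γ(P, D q (b k)) γ := by
      intro x x' hxx
      obtain ⟨z, rfl⟩ := hbij.2 x
      obtain ⟨z', rfl⟩ := hbij.2 x'
      simp only [smul_eq_mul] at hxx
      rw [← hγ, ← map_mul, ← map_mul] at hxx
      rw [hg (hbij.1 hxx)]
    letI := P.presheaf.algebra_section_stalk ⟨y, hy⟩
    haveI := hD.isLocalization_stalk ⟨y, hy⟩
    haveI : Module.Flat Γ(P, D q (b k)) (P.presheaf.stalk y) :=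
      IsLocalization.flat (P.presheaf.stalk y) (hD.primeIdealOf ⟨y, hy⟩).asIdeal.primeCompl
    exact IsSMulRegular.of_flat hγreg

end Groth.Agent.Thom28
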