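import Groth.Agent.Thom28.Coord
import Groth.Agent.ZeroSchLib.Basic
import Groth.Agent.CAlgH.CIImmersion

/-!
# The zero scheme of a section of an invertible module
-/

set_option autoImplicit false
set_option linter.unusedSectionVars false
set_option linter.style.haveILetI false
set_option backward.isDefEq.respectTransparency.types false
set_option maxHeartbeats 1000000

universe u

open AlgebraicGeometry CategoryTheory CategoryTheory.Limits TopologicalSpace IsLocalRing
open Groth.Agent.Coherent Groth.Agent.PicLib Groth.Agent.CycLim28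
open Groth.Agent.CycLib28 Groth.Agent.CycLib28.PB

namespace Groth.Agent.Thom28

variable {X : Scheme.{u}} {L : X.Modules}

theorem sI_line (s : Γ(L, ⊤)) {U : X.Opens} {g : Γ(L, U)} (hg : IsGen L U g) (hL : PicF.IsInvertible L)
    {x : X} (hx : x ∈ U) :
    sI s x = Ideal.span {X.presheaf.germ U x hx (hg.coef le_rfl (resM L le_top s))} := by
  have hs : (L.presheaf.germ ⊤ x trivial s : L.presheaf.stalk x) =
      X.presheaf.germ U x hx (hg.coef le_rfl (resM L le_top s)) • (L.presheaf.germ U x hx g : L.presheaf.stalk x) := by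
    refine Eq.trans ?_ (QCohLoc.germ_smul' (M := L) hx _ g)
    have h := hg.coef_spec le_rfl (resM L le_top s)
    rw [resM_self] at h
    rw [h]
    exact (TopCat.Presheaf.germ_res_apply L.presheaf (homOfLE le_top) x hx s).symm
  obtain ⟨b, hb⟩ : ∃ b : Module.Basis (Fin 1) (X.presheaf.stalk x) (L.presheaf.stalk x),
      b 0 = L.presheaf.germ U x hx g := by
    let e := LinearEquiv.ofBijective (LinearMap.toSpanSingleton (X.presheaf.stalk x) (L.presheaf.stalk x)
      (L.presheaf.germ U x hx g)) (VarietyLib.gen_germ_bijective hg hx)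
    refine ⟨(Module.Basis.singleton (Fin 1) (X.presheaf.stalk x)).map e, ?_⟩
    rw [Module.Basis.map_apply, Module.Basis.singleton_apply]
    show LinearMap.toSpanSingleton (X.presheaf.stalk x) (L.presheaf.stalk x) _ 1 = _
    rw [LinearMap.toSpanSingleton_apply, one_smul]
  rw [sI, coordIdeal_eq_span b, hs, map_smul, ← hb, b.repr_self]
  refine congrArg Ideal.span (Set.ext fun y => ⟨?_, ?_⟩)
  · rintro ⟨i, rfl⟩
    rw [Fin.fin_one_eq_zero i]
    simp
  · rintro rfl
    exact ⟨0, by simp⟩

/-- The zero scheme. -/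
theorem exists_zero_line (hL : PicF.IsInvertible L) (s : Γ(L, ⊤)) :
    ∃ (D : Scheme.{u}) (ι : D ⟶ X) (_ : IsClosedImmersion ι),
      Set.range ι = {x : X | sI s x ≤ maximalIdeal (X.presheaf.stalk x)} ∧
      ∀ d, RingHom.ker (ι.stalkMap d).hom = sI s (ι d) := by
  let I := PicF2.zeroScheme L (unitDesc L s)
  have hch : ∀ x : X, ∃ (W : X.Opens) (hW : IsAffineOpen W) (hxW : x ∈ W) (f : Γ(X, W)),
      I.ideal ⟨W, hW⟩ = Ideal.span {f} ∧ sI s x = Ideal.span {X.presheaf.germ W x hxW f} := by
    intro x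
    obtain ⟨U, hxU, g, hg⟩ := PicLib.exists_isGen hL x
    obtain ⟨W, hW, hxW, hWU⟩ := TopologicalSpace.Opens.isBasis_iff_nbhd.1 X.isBasis_affineOpens hxU
    have hg' := hg.restrict hWU
    refine ⟨W, hW, hxW, hg'.coef le_rfl (resM L le_top s), ?_, sI_line s hg' hL hxW⟩
    rw [ZeroSchLib.zeroScheme_ideal_eq_span _ hL ⟨W, hW⟩ hg', unitVal_unitDesc]
  refine ⟨I.subscheme, I.subschemeι, inferInstance, ?_, fun d => ?_⟩
  · rw [Scheme.IdealSheafData.range_subschemeι]
    ext x
    obtain ⟨W, hW, hxW, f, hI, hs⟩ := hch x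
    rw [SetLike.mem_coe, Scheme.IdealSheafData.mem_support_iff_of_mem (U := ⟨W, hW⟩) hxW, hI, Scheme.zeroLocus_span,
      Scheme.zeroLocus_singleton]
    show ¬ x ∈ X.basicOpen f ↔ sI s x ≤ _
    rw [hs, Ideal.span_singleton_le_iff_mem, IsLocalRing.mem_maximalIdeal, mem_nonunits_iff,
      Scheme.mem_basicOpen _ _ _ hxW]
  · obtain ⟨W, hW, hxW, f, hI, hs⟩ := hch (I.subschemeι d)
    rw [CAlgH.CIImmersion.ker_stalkMap_eq I.subschemeι d hW hxW, I.ker_subschemeι_app ⟨W, hW⟩, hI, hs, Ideal.map_span,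
      Set.image_singleton]

end Groth.Agent.Thom28
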